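/-
Closure certificates: which root subgroups a subgroup containing some root elements must contain.
-/
import Cfsg.Agent.Lib.ChevCore.ShortRoot

set_option autoImplicit false

namespace Cfsg.Agent.ChevGen

open Cfsg.Lie Cfsg.Agent.ChevCore

variable (D : ChevalleyDatum)

/-- the first `m` images of `s` under the word `w` -/
def orb (w : List ℕ) (s m : ℕ) : List ℕ := (List.range m).map fun i => (actW D w)^[i] s

/-- one commutator step: from `X_r` and `x_s(1)` to the single unknown root of the formula -/
def stepC (E C O L : List ℕ) (p : ℕ × ℕ) : List ℕ :=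
  if L.contains p.1 && (L.contains p.2 || O.contains p.2) && decide (p.2 ≠ p.1) &&
      decide (p.2 ≠ D.neg p.1) then
    match (D.commTerms p.1 p.2).filter fun c => !L.contains c.1 with
    | [c] => if E.contains c.2.2.1 && C.contains c.2.1.natAbs then c.1 :: L else L
    | _ => L
  else L

/-- a sequence of commutator steps -/
def runC (E C O : List ℕ) : List (ℕ × ℕ) → List ℕ → List ℕ
  | [], L => L
  | p :: ps, L => runC E C O ps (stepC D E C O L p)

/-- the list is everything -/
def allR (L : List ℕ) : Bool := (List.range D.nroots).all fun r => L.contains r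

variable {D} {F : Type*} [Field F]

/-- the whole root subgroup lies in `P` -/
def Full (P : Subgroup (GL D.Idx F)) (r : ℕ) : Prop :=
  r < D.nroots ∧ ∀ t : F, xg D F r t ∈ P

/-- the standard root element lies in `P` -/
def One (P : Subgroup (GL D.Idx F)) (r : ℕ) : Prop :=
  r < D.nroots ∧ xg D F r 1 ∈ P

theorem Full.one {P : Subgroup (GL D.Idx F)} {r : ℕ} (h : Full P r) : One P r := ⟨h.1, h.2 1⟩

theorem mem_of_filter {G α : Type*} [Group G] (P : Subgroup G) (f : α → G) (p : α → Bool)
    (hp : ∀ a, p a = false → f a ∈ P) (L : List α) (c : α) (hc : L.filter p = [c])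
    (hL : (L.map f).prod ∈ P) : f c ∈ P := by
  induction L with
  | nil => simp at hc
  | cons a L ih =>
    rw [List.map_cons, List.prod_cons] at hL
    cases hb : p a with
    | false =>
      rw [List.filter_cons_of_neg (by simp [hb])] at hc
      exact ih hc ((P.mul_mem_cancel_left (hp a hb)).1 hL)
    | true =>
      rw [List.filter_cons_of_pos hb, List.cons.injEq] at hc
      obtain ⟨rfl, hc⟩ := hc
      refine (P.mul_mem_cancel_right (list_prod_mem fun x hx => ?_)).1 hL
      obtain ⟨y, hy, rfl⟩ := List.mem_map.1 hx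
      refine hp y ?_
      have := List.filter_eq_nil_iff.1 hc y hy
      simpa using this

variable (hC : CommGood D)

include hC

/-- the parameters of the elements of a root subgroup in `P` -/
def paramSet (P : Subgroup (GL D.Idx F)) (r : ℕ) : AddSubgroup F where
  carrier := {t | xg D F r t ∈ P}
  zero_mem' := by
    show xg D F r 0 ∈ P
    rw [hC.toGood.xg_zero]; exact P.one_mem
  add_mem' := by
    intro a b ha hb
    show xg D F r (a + b) ∈ P
    rw [hC.toGood.xg_add]; exact P.mul_mem ha hb
  neg_mem' := by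
    intro a ha
    show xg D F r (-a) ∈ P
    rw [← hC.toGood.xg_inv]; exact P.inv_mem ha

theorem full_stepC {P : Subgroup (GL D.Idx F)} {E C O L : List ℕ}
    (hE : ∀ i ∈ E, AddSubgroup.closure (Set.range fun t : F => t ^ i) = ⊤)
    (hC' : ∀ c ∈ C, (c : F) ≠ 0) (hO : ∀ r ∈ O, One P r) (hL : ∀ r ∈ L, Full P r)
    (p : ℕ × ℕ) : ∀ r ∈ stepC D E C O L p, Full P r := by
  unfold stepC
  split
  · rename_i hcond
    simp only [Bool.and_eq_true, Bool.or_eq_true, decide_eq_true_eq, List.contains_iff_mem] at hcond
    obtain ⟨⟨⟨hr, hs⟩, h1⟩, h2⟩ := hcond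
    split
    · rename_i c hfil
      split
      · rename_i hgood
        simp only [Bool.and_eq_true, List.contains_iff_mem] at hgood
        intro k hk
        rcases List.mem_cons.1 hk with rfl | hk
        swap
        · exact hL k hk
        obtain ⟨hrlt, hX⟩ := hL _ hr
        obtain ⟨hslt, hx1⟩ : One P p.2 := hs.elim (fun h => (hL _ h).one) (hO _)
        have hcmem : c ∈ D.commTerms p.1 p.2 := (List.mem_filter.1
          (hfil ▸ List.mem_singleton_self c)).1
        have hlt : c.1 < D.nroots := (hC.toGood.commTerms_coef hrlt hslt (by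
          rw [commW_std]; exact hcmem)).1
        have hmem : ∀ t : F, xg D F c.1 ((c.2.1 : F) * t ^ c.2.2.1) ∈ P := by
          intro t
          have h := hC.xg_comm hrlt hslt h1 h2 (-t) 1
          have hW : wordG D F (D.commWord F p.1 p.2 (-t) 1) ∈ P := by
            rw [← P.mul_mem_cancel_left (P.mul_mem (hX (-t)) hx1), ← h]
            exact P.mul_mem hx1 (hX _)
          simp only [wordG, ChevalleyDatum.commWord, List.map_map] at hW
          have := mem_of_filter P _ (fun d : ℕ × ℤ × ℕ × ℕ => !L.contains d.1) (fun d hd => by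
            simp only [Bool.not_eq_false', List.contains_iff_mem] at hd
            exact (hL _ hd).2 _) _ c hfil hW
          simpa using this
        refine ⟨hlt, fun t => ?_⟩
        have hc0 : (c.2.1 : F) ≠ 0 := by
          have := hC' _ hgood.2
          rcases Int.natAbs_eq c.2.1 with e | e <;> rw [e] <;> simpa using this
        have hall : (paramSet hC P c.1).comap (AddMonoidHom.mulLeft (c.2.1 : F)) = ⊤ :=
          top_le_iff.1 ((hE _ hgood.1).symm.le.trans ((AddSubgroup.closure_le _).2 (by
            rintro _ ⟨u, rfl⟩; exact hmem u)))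
        have hm : (c.2.1 : F)⁻¹ * t ∈
            (paramSet hC P c.1).comap (AddMonoidHom.mulLeft (c.2.1 : F)) := by
          rw [hall]; trivial
        simpa [AddSubgroup.mem_comap, mul_inv_cancel_left₀ hc0] using
          (show xg D F c.1 ((c.2.1 : F) * ((c.2.1 : F)⁻¹ * t)) ∈ P from hm)
      · exact hL
    · exact hL
  · exact hL

theorem full_runC {P : Subgroup (GL D.Idx F)} {E C O : List ℕ}
    (hE : ∀ i ∈ E, AddSubgroup.closure (Set.range fun t : F => t ^ i) = ⊤)
    (hC' : ∀ c ∈ C, (c : F) ≠ 0) (hO : ∀ r ∈ O, One P r) (ps : List (ℕ × ℕ)) {L : List ℕ}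
    (hL : ∀ r ∈ L, Full P r) : ∀ r ∈ runC D E C O ps L, Full P r := by
  induction ps generalizing L with
  | nil => exact hL
  | cons p ps ih => exact ih (full_stepC hC hE hC' hO hL p)

theorem group_le_of_allR {P : Subgroup (GL D.Idx F)} {L : List ℕ} (h : allR D L = true)
    (hL : ∀ r ∈ L, Full P r) : D.group F ≤ P := by
  simp only [allR, List.all_eq_true, List.mem_range, List.contains_iff_mem] at h
  rw [hC.toGood.group_eq]
  exact XS_le fun r t hr _ => (hL r (h r hr)).2 t

theorem nw_conj_full {P : Subgroup (GL D.Idx F)} {w : List ℕ} (hw : ∀ i ∈ w, i < D.rank)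
    (hn : nw D F w ∈ P) {r : ℕ} (h : Full P r) : Full P (actW D w r) := by
  refine ⟨hC.toGood.actW_lt hw h.1, fun t => ?_⟩
  have e : xg D F (actW D w r) t =
      nw D F w * xg D F r ((etaWord D w r : F) * t) * (nw D F w)⁻¹ := by
    rw [hC.toGood.nw_conj_x hw h.1, ← mul_assoc, ← Int.cast_mul, Good.etaWord_sq, Int.cast_one,
      one_mul]
  rw [e]
  exact P.mul_mem (P.mul_mem hn (h.2 _)) (P.inv_mem hn)

theorem nw_conj_one {P : Subgroup (GL D.Idx F)} {w : List ℕ} (hw : ∀ i ∈ w, i < D.rank)
    (hn : nw D F w ∈ P) {r : ℕ} (h : One P r) : One P (actW D w r) := by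
  refine ⟨hC.toGood.actW_lt hw h.1, ?_⟩
  have h1 : xg D F (actW D w r) (etaWord D w r : F) ∈ P := by
    have := hC.toGood.nw_conj_x (F := F) hw h.1 1
    rw [mul_one] at this
    rw [← this]
    exact P.mul_mem (P.mul_mem hn h.2) (P.inv_mem hn)
  rcases Int.eq_one_or_neg_one_of_mul_eq_one (Good.etaWord_sq (D := D) w r) with e | e
  · simpa [e] using h1
  · rw [e, Int.cast_neg, Int.cast_one, ← hC.toGood.xg_inv] at h1
    exact inv_mem_iff.1 h1

theorem full_orb {P : Subgroup (GL D.Idx F)} {w : List ℕ} (hw : ∀ i ∈ w, i < D.rank)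
    (hn : nw D F w ∈ P) {s : ℕ} (h : Full P s) (m : ℕ) : ∀ r ∈ orb D w s m, Full P r := by
  intro r hr
  obtain ⟨i, -, rfl⟩ := List.mem_map.1 hr
  clear hr
  induction i with
  | zero => exact h
  | succ i ih =>
    rw [Function.iterate_succ_apply']
    exact nw_conj_full hC hw hn ih

theorem one_orb {P : Subgroup (GL D.Idx F)} {w : List ℕ} (hw : ∀ i ∈ w, i < D.rank)
    (hn : nw D F w ∈ P) {s : ℕ} (h : One P s) (m : ℕ) : ∀ r ∈ orb D w s m, One P r := by
  intro r hr
  obtain ⟨i, -, rfl⟩ := List.mem_map.1 hr
  clear hr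
  induction i with
  | zero => exact h
  | succ i ih =>
    rw [Function.iterate_succ_apply']
    exact nw_conj_one hC hw hn ih

/-- a root element and a multiplier generating the field give the whole root subgroup -/
theorem full_of_line {P : Subgroup (GL D.Idx F)} {r : ℕ} (hr : r < D.nroots) {h : GL D.Idx F}
    (hh : h ∈ P) {c : F} (hconj : ∀ t, h * xg D F r t * h⁻¹ = xg D F r (c * t))
    (hc : Subring.closure ({c} : Set F) = ⊤) {d : F} (hd : d ≠ 0) (hmem : xg D F r d ∈ P) :
    Full P r := by
  let T : Subring F :=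
    { carrier := {v | ∀ u ∈ paramSet hC P r, v * u ∈ paramSet hC P r}
      one_mem' := fun u hu => by simpa using hu
      mul_mem' := fun {a b} ha hb u hu => by rw [mul_assoc]; exact ha _ (hb _ hu)
      zero_mem' := fun u _ => by simp
      add_mem' := fun {a b} ha hb u hu => by rw [add_mul]; exact add_mem (ha _ hu) (hb _ hu)
      neg_mem' := fun {a} ha u hu => by rw [neg_mul]; exact neg_mem (ha _ hu) }
  have hT : T = ⊤ := top_le_iff.1 (hc.symm.le.trans (Subring.closure_le.2 (by
    intro v hv u hu
    rw [Set.mem_singleton_iff.1 hv]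
    show xg D F r (c * u) ∈ P
    rw [← hconj]
    exact P.mul_mem (P.mul_mem hh hu) (P.inv_mem hh))))
  refine ⟨hr, fun t => ?_⟩
  have hm : t / d ∈ T := by rw [hT]; trivial
  have := hm d hmem
  rw [div_mul_cancel₀ _ hd] at this
  exact this

end Cfsg.Agent.ChevGen
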