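/-
Two generators of a Chevalley group: `h_β(k) x_l(1)` and `x_s(1) n_w`, with variants over two elements.
-/
import Cfsg.Agent.Lib.ChevGen.Closure

set_option autoImplicit false

namespace Cfsg.Agent.ChevGen

open Cfsg.Lie Cfsg.Agent.ChevCore

variable {D : ChevalleyDatum} {F : Type*} [Field F]

/-! ### the field -/

theorem addClosure_pow_one :
    AddSubgroup.closure (Set.range fun t : F => t ^ 1) = ⊤ :=
  top_le_iff.1 fun t _ => AddSubgroup.subset_closure ⟨t, pow_one t⟩

theorem addClosure_pow_char [Finite F] (p : ℕ) [Fact p.Prime] [CharP F p] :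
    AddSubgroup.closure (Set.range fun t : F => t ^ p) = ⊤ := by
  have h : Function.Surjective fun t : F => t ^ p :=
    Finite.surjective_of_injective (frobenius_inj F p)
  exact top_le_iff.1 fun t _ => AddSubgroup.subset_closure (h t)

theorem addClosure_sq [Finite F] : AddSubgroup.closure (Set.range fun t : F => t ^ 2) = ⊤ := by
  by_cases h2 : (2 : F) = 0
  · haveI : CharP F 2 := CharTwo.of_one_ne_zero_of_two_eq_zero one_ne_zero h2
    haveI : Fact (Nat.Prime 2) := ⟨Nat.prime_two⟩
    exact addClosure_pow_char 2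
  · refine top_le_iff.1 fun t _ => ?_
    have e : t = (t / 2 + 1) ^ 2 - (t / 2) ^ 2 - (1 : F) ^ 2 := by field_simp; ring
    rw [e]
    exact sub_mem (sub_mem (AddSubgroup.subset_closure ⟨_, rfl⟩)
      (AddSubgroup.subset_closure ⟨_, rfl⟩)) (AddSubgroup.subset_closure ⟨_, rfl⟩)

theorem orderOf_zpow_coprime {G : Type*} [Group G] (g : G) {m : ℤ}
    (hm : m.natAbs.Coprime (orderOf g)) : orderOf (g ^ m) = orderOf g := by
  have hp : orderOf (g ^ m.natAbs) = orderOf g := Nat.Coprime.orderOf_pow hm.symm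
  rcases Int.natAbs_eq m with e | e
  · rw [e, zpow_natCast, hp]
  · rw [e, zpow_neg, orderOf_inv, zpow_natCast, hp]

theorem subringClosure_zpow [Finite F] {k : Fˣ} (hk : ∀ u : Fˣ, u ∈ Subgroup.zpowers k) {m : ℤ}
    (hm : m.natAbs.Coprime (Nat.card Fˣ)) : Subring.closure ({(k : F) ^ m} : Set F) = ⊤ := by
  have hg : ∀ u : Fˣ, u ∈ Submonoid.powers (k ^ m) := by
    intro u
    rw [mem_powers_iff_mem_zpowers]
    have h0 : Subgroup.zpowers k = ⊤ := eq_top_iff.2 fun v _ => hk v
    have h1 : Nat.card Fˣ = orderOf k := by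
      rw [← Nat.card_zpowers k, h0, Subgroup.card_top]
    have h2 : orderOf (k ^ m) = orderOf k := orderOf_zpow_coprime k (by rw [← h1]; exact hm)
    have h3 : Subgroup.zpowers (k ^ m) = ⊤ :=
      Subgroup.eq_top_of_card_eq _ (by rw [Nat.card_zpowers, h2, ← h1])
    rw [h3]; exact Subgroup.mem_top u
  refine top_le_iff.1 fun t _ => ?_
  by_cases ht : t = 0
  · rw [ht]; exact zero_mem _
  obtain ⟨n, hn⟩ := Submonoid.mem_powers_iff _ _ |>.1 (hg (Units.mk0 t ht))
  have e : t = ((k : F) ^ m) ^ n := by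
    have := congrArg Units.val hn
    rw [Units.val_pow_eq_pow_val, Units.val_zpow_eq_zpow_val, Units.val_mk0] at this
    exact this.symm
  rw [e]
  exact pow_mem (Subring.subset_closure (Set.mem_singleton _)) n

variable (hC : CommGood D)

include hC

theorem hg_one {r : ℕ} (hr : r < D.nroots) : hg D F r 1 = 1 := by
  refine Units.ext ?_
  rw [hC.toGood.hg_eq_diag hr one_ne_zero]
  rw [show hDiag D r (1 : F) = fun _ => 1 from funext fun x => one_zpow _, Matrix.diagonal_one, Units.val_one]

theorem hg_pow {r : ℕ} (hr : r < D.nroots) {c : F} (hc : c ≠ 0) (n : ℕ) :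
    hg D F r c ^ n = hg D F r (c ^ n) := by
  induction n with
  | zero => rw [pow_zero, pow_zero, hg_one hC hr]
  | succ n ih => rw [pow_succ, ih, hC.toGood.hg_mul hr (pow_ne_zero n hc) hc, ← pow_succ]

theorem nw_conj_hg {w : List ℕ} (hw : ∀ i ∈ w, i < D.rank) {r : ℕ} (hr : r < D.nroots) {c : F}
    (hc : c ≠ 0) : nw D F w * hg D F r c * (nw D F w)⁻¹ = hg D F (actW D w r) c := by
  rw [mul_inv_eq_iff_eq_mul]
  refine Units.ext ?_
  rw [Units.val_mul, Units.val_mul, hC.toGood.hg_eq_diag hr hc,
    hC.toGood.hg_eq_diag (hC.toGood.actW_lt hw hr) hc, hC.toGood.nw_conj_diag hw hr]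

theorem hg_comm_hg {r s : ℕ} (hr : r < D.nroots) (hs : s < D.nroots) {a b : F} (ha : a ≠ 0)
    (hb : b ≠ 0) : hg D F r a * hg D F s b = hg D F s b * hg D F r a := by
  refine Units.ext ?_
  rw [Units.val_mul, Units.val_mul, hC.toGood.hg_eq_diag hr ha, hC.toGood.hg_eq_diag hs hb,
    Matrix.diagonal_mul_diagonal, Matrix.diagonal_mul_diagonal]
  congr 1
  funext x
  rw [mul_comm]

theorem nw_mem_group (w : List ℕ) : nw D F w ∈ D.group F :=
  list_prod_mem fun x hx => by
    obtain ⟨i, -, rfl⟩ := List.mem_map.1 hx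
    exact hC.toGood.ng_mem_group _ _

theorem exists_two {a b : GL D.Idx F} (ha : a ∈ D.group F) (hb : b ∈ D.group F)
    (h : D.group F ≤ Subgroup.closure {a, b}) :
    ∃ a b : ↥(D.group F), Subgroup.closure ({a, b} : Set ↥(D.group F)) = ⊤ := by
  refine ⟨⟨a, ha⟩, ⟨b, hb⟩, ?_⟩
  apply Subgroup.map_injective (D.group F).subtype_injective
  rw [MonoidHom.map_closure, ← MonoidHom.range_eq_map, Subgroup.range_subtype, Set.image_pair]
  exact le_antisymm ((Subgroup.closure_le _).2 (Set.insert_subset ha (by simpa using hb))) h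

/-- the data of the construction over a field with more than two elements -/
structure Cfg where
  /-- the root of the moving root element -/
  s : ℕ
  /-- the root of the root element commuting with the torus element -/
  l : ℕ
  /-- the root of the torus element -/
  β : ℕ
  /-- orbit length -/
  m : ℕ
  /-- allowed exponents -/
  E : List ℕ
  /-- allowed coefficients -/
  C : List ℕ
  /-- allowed line multipliers -/
  M : List ℕ
  /-- the steps -/
  steps : List (ℕ × ℕ)

omit hC

variable (D) in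
/-- the roots whose root subgroups come from the torus element -/
def Cfg.lineRoots (c : Cfg) : List ℕ :=
  (orb D (List.range D.rank) c.l c.m).filter fun r => c.M.contains (D.pairing c.β r).natAbs

variable (D) in
/-- the certificate -/
def Cfg.ok (c : Cfg) : Bool :=
  decide (c.s < D.nroots) && decide (c.l < D.nroots) && decide (c.β < D.nroots) &&
    decide ((D.pairing c.β c.s).natAbs = 1) &&
    decide ((D.pairing (actW D (List.range D.rank) c.β) c.s).natAbs = 1) &&
    decide (D.pairing c.β c.l = 0) &&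
    allR D (runC D c.E c.C (orb D (List.range D.rank) c.l c.m) c.steps
      (c.lineRoots D ++ orb D (List.range D.rank) c.s c.m))

theorem unit_zpow_ne_one {k : Fˣ} (hk1 : (k : F) ≠ 1) {z : ℤ} (hz : z.natAbs = 1) :
    (k : F) ^ z ≠ 1 := by
  rcases Int.natAbs_eq z with e | e <;> rw [e, hz] <;> simpa using hk1

include hC

/-- two generators over a field with more than two elements -/
theorem exists_two_of_cfg [Fintype F] (hq : 2 < Fintype.card F) (c : Cfg) (hok : c.ok D = true)
    (hE : ∀ i ∈ c.E, AddSubgroup.closure (Set.range fun t : F => t ^ i) = ⊤)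
    (hC' : ∀ a ∈ c.C, (a : F) ≠ 0) (hM : ∀ a ∈ c.M, a.Coprime (Fintype.card F - 1)) :
    ∃ a b : ↥(D.group F), Subgroup.closure ({a, b} : Set ↥(D.group F)) = ⊤ := by
  classical
  simp only [Cfg.ok, Bool.and_eq_true, decide_eq_true_eq] at hok
  obtain ⟨⟨⟨⟨⟨⟨hs, hl⟩, hb⟩, hp1⟩, hp2⟩, hp3⟩, hall⟩ := hok
  have hG := hC.toGood
  obtain ⟨k, hk⟩ := IsCyclic.exists_generator (α := Fˣ)
  have hcard : Nat.card Fˣ = Fintype.card F - 1 := by
    rw [Nat.card_eq_fintype_card, Fintype.card_units]
  have hk1 : (k : F) ≠ 1 := by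
    intro h
    have h' : k = 1 := Units.ext h
    have : Nat.card Fˣ = 1 := Nat.card_eq_one_iff_unique.2 ⟨⟨fun a b => by
      obtain ⟨i, rfl⟩ := hk a; obtain ⟨j, rfl⟩ := hk b; simp [h']⟩, ⟨1⟩⟩
    omega
  set w := List.range D.rank
  have hw : ∀ i ∈ w, i < D.rank := fun i hi => List.mem_range.1 hi
  set n := nw D F w
  set h := hg D F c.β (k : F) with hh
  set a := h * xg D F c.l 1 with ha
  set b := xg D F c.s 1 * n with hbdef
  refine exists_two hC (a := a) (b := b) (mul_mem (hG.hg_mem_group _ _) (hG.xg_mem_group _ _))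
    (mul_mem (hG.xg_mem_group _ _) (nw_mem_group hC w)) ?_
  set P := Subgroup.closure ({a, b} : Set (GL D.Idx F)) with hP
  have haP : a ∈ P := Subgroup.subset_closure (by simp)
  have hbP : b ∈ P := Subgroup.subset_closure (by simp)
  -- separate the commuting factors
  have hcomm : Commute h (xg D F c.l 1) := by
    have := hG.hg_conj_x hb hl k.ne_zero (1 : F)
    rw [hp3, zpow_zero, one_mul, ← hh, mul_inv_eq_iff_eq_mul] at this
    exact this
  have hl1 : xg D F c.l 1 ∈ P := by
    have e1 : a ^ (Fintype.card F - 1) = xg D F c.l (-1) := by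
      rw [ha, hcomm.mul_pow, hh, hg_pow hC hb k.ne_zero, FiniteField.pow_card_sub_one_eq_one _ k.ne_zero,
        hg_one hC hb, one_mul, ← zpow_natCast, ← hG.xg_zsmul, Int.cast_natCast,
        Nat.cast_sub Fintype.card_pos, Nat.cast_card_eq_zero, Nat.cast_one, zero_sub, mul_one]
    have := pow_mem haP (Fintype.card F - 1)
    rw [e1, ← hG.xg_inv] at this
    exact inv_mem_iff.1 this
  have hhP : h ∈ P := by
    have := P.mul_mem haP (P.inv_mem hl1)
    rwa [ha, mul_inv_cancel_right] at this
  -- the moving root subgroup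
  set β' := actW D w c.β
  have hb' : β' < D.nroots := hG.actW_lt hw hb
  set h' := hg D F β' (k : F) with hh'
  set χ : F := (k : F) ^ D.pairing c.β c.s
  set χ' : F := (k : F) ^ D.pairing β' c.s
  have hχ'0 : χ' ≠ 0 := zpow_ne_zero _ k.ne_zero
  set d : F := χ'⁻¹ - 1
  have hc1 : ∀ t, h * xg D F c.s t * h⁻¹ = xg D F c.s (χ * t) := hG.hg_conj_x hb hs k.ne_zero
  have hc2 : ∀ t, h' * xg D F c.s t * h'⁻¹ = xg D F c.s (χ' * t) := hG.hg_conj_x hb' hs k.ne_zero
  have hg1 : h' * xg D F c.s d ∈ P := by
    have e : b * h * b⁻¹ = h' * xg D F c.s d := by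
      rw [hbdef, show xg D F c.s 1 * n * h * (xg D F c.s 1 * n)⁻¹ =
        xg D F c.s 1 * (n * h * n⁻¹) * (xg D F c.s 1)⁻¹ by group, hh, nw_conj_hg hC hw hb k.ne_zero]
      have h1 : h' * xg D F c.s χ'⁻¹ * h'⁻¹ = xg D F c.s 1 := by
        rw [hc2, mul_inv_cancel₀ hχ'0]
      rw [show hg D F β' (k : F) = h' from rfl, ← h1, show d = χ'⁻¹ + -1 by ring, hG.xg_add,
        ← hG.xg_inv, h1]
      have h2 : xg D F c.s 1 * h' = h' * xg D F c.s χ'⁻¹ := by rw [← h1]; group
      rw [h2, mul_assoc]
    rw [← e]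
    exact P.mul_mem (P.mul_mem hbP hhP) (P.inv_mem hbP)
  have hx : xg D F c.s (χ' * (χ * d + -d)) ∈ P := by
    have hch : h * h' = h' * h := hg_comm_hg hC hb hb' k.ne_zero k.ne_zero
    have e : h * (h' * xg D F c.s d) * h⁻¹ * (h' * xg D F c.s d)⁻¹ =
        xg D F c.s (χ' * (χ * d + -d)) := by
      rw [← hc2, hG.xg_add, ← hc1, ← hG.xg_inv, ← mul_assoc h, hch]
      group
    rw [← e]
    exact P.mul_mem (P.mul_mem (P.mul_mem hhP hg1) (P.inv_mem hhP)) (P.inv_mem hg1)
  have hd : χ' * (χ * d + -d) ≠ 0 := by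
    refine mul_ne_zero hχ'0 ?_
    rw [show χ * d + -d = (χ - 1) * d by ring]
    exact mul_ne_zero (sub_ne_zero.2 (unit_zpow_ne_one hk1 hp1))
      (sub_ne_zero.2 fun e => unit_zpow_ne_one hk1 hp2 (inv_eq_one.1 e))
  have hsF : Full P c.s := full_of_line hC hs hhP hc1
    (subringClosure_zpow hk (by rw [hp1]; exact Nat.coprime_one_left _)) hd hx
  have hn : n ∈ P := by
    have := P.mul_mem (P.inv_mem (hsF.2 1)) hbP
    rwa [hbdef, inv_mul_cancel_left] at this
  have hO : ∀ r ∈ orb D w c.l c.m, One P r := one_orb hC hw hn ⟨hl, hl1⟩ c.m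
  refine group_le_of_allR hC hall (full_runC hC hE hC' hO _ fun r hr => ?_)
  rcases List.mem_append.1 hr with hr | hr
  · simp only [Cfg.lineRoots, List.mem_filter, List.contains_iff_mem] at hr
    obtain ⟨hr, hm⟩ := hr
    obtain ⟨hrlt, hr1⟩ := hO r hr
    exact full_of_line hC hrlt hhP (hG.hg_conj_x hb hrlt k.ne_zero)
      (subringClosure_zpow hk (hcard ▸ hM _ hm)) one_ne_zero hr1
  · exact full_orb hC hw hn hsF c.m r hr

/-! ### two elements -/

theorem full_of_one_of_card_two [Fintype F] (h2 : Fintype.card F = 2) {P : Subgroup (GL D.Idx F)}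
    {r : ℕ} (h : One P r) : Full P r := by
  refine ⟨h.1, fun t => ?_⟩
  classical
  by_cases ht : t = 0
  · rw [ht, hC.toGood.xg_zero]; exact P.one_mem
  · have hc : Fintype.card Fˣ = 1 := by rw [Fintype.card_units, h2]
    haveI : Subsingleton Fˣ := Fintype.card_le_one_iff_subsingleton.1 hc.le
    have : Units.mk0 t ht = 1 := Subsingleton.elim _ _
    have := congrArg Units.val this
    simp only [Units.val_mk0, Units.val_one] at this
    rw [this]; exact h.2

theorem two_eq_zero_of_card [Fintype F] (h2 : Fintype.card F = 2) : (2 : F) = 0 := by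
  have := Nat.cast_card_eq_zero F
  rwa [h2, Nat.cast_ofNat] at this

omit hC in
theorem addClosure_pow_two [Fintype F] (h2 : Fintype.card F = 2) {i : ℕ} (hi : 1 ≤ i) :
    AddSubgroup.closure (Set.range fun t : F => t ^ i) = ⊤ := by
  refine top_le_iff.1 fun t _ => AddSubgroup.subset_closure ⟨t, ?_⟩
  induction i, hi using Nat.le_induction with
  | base => exact pow_one t
  | succ j _ ih =>
    simp only at ih ⊢
    rw [pow_succ]
    rw [ih, ← sq, ← h2]
    exact FiniteField.pow_card t

/-- certificate: one moving root element suffices -/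
theorem exists_two_of_orbit [Fintype F] (h2 : Fintype.card F = 2) {s m : ℕ} {ps : List (ℕ × ℕ)}
    (hok : (decide (s < D.nroots) &&
      allR D (runC D [1] [1] [] ps (orb D (List.range D.rank) s m))) = true) :
    ∃ a b : ↥(D.group F), Subgroup.closure ({a, b} : Set ↥(D.group F)) = ⊤ := by
  simp only [Bool.and_eq_true, decide_eq_true_eq] at hok
  obtain ⟨hs, hall⟩ := hok
  refine exists_two hC (a := nw D F (List.range D.rank)) (b := xg D F s 1) (nw_mem_group hC _)
    (hC.toGood.xg_mem_group _ _) ?_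
  refine group_le_of_allR hC hall (full_runC hC ?_ ?_ (by simp) _ (full_orb hC
    (fun i hi => List.mem_range.1 hi) (Subgroup.subset_closure (by simp))
    (full_of_one_of_card_two hC h2 ⟨hs, Subgroup.subset_closure (by simp)⟩) m))
  · simp [addClosure_pow_one]
  · simp

variable (D) in
/-- certificate for the construction with an element of order three -/
def pairOK (l i x m : ℕ) (ps ps' : List (ℕ × ℕ)) : Bool :=
  let w := List.range D.rank
  let g := D.simple i
  let g' := D.neg g
  let F0 := runC D [1] [1] [] ps (orb D w l m)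
  decide (l < D.nroots) && decide (i < D.rank) &&
  decide (l ≠ g) && decide (l ≠ g') && decide (D.commTerms g l = []) &&
  decide (D.commTerms g' l = []) && decide (l ≠ D.neg g') &&
  F0.contains x && decide (x ≠ g) && decide (x ≠ g') && decide (x ≠ D.neg g') &&
  decide (D.commTerms g' x = []) &&
    match (D.commTerms g x).filter fun c => !F0.contains c.1 with
    | [c] => decide (c.2.1.natAbs = 1) &&
        allR D (runC D [1, 2, 3] [1] [] ps' (orb D w c.1 m ++ F0))
    | _ => false

theorem xg_commute {r s : ℕ} (hr : r < D.nroots) (hs : s < D.nroots) (h1 : s ≠ r)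
    (h2 : s ≠ D.neg r) (h3 : D.commTerms r s = []) (t u : F) :
    Commute (xg D F r t) (xg D F s u) := by
  have := hC.xg_comm hr hs h1 h2 t u
  simp only [ChevalleyDatum.commWord, h3, wordG, List.map_nil, List.prod_nil, mul_one] at this
  exact this.symm

/-- two generators over two elements, with an element of order three -/
theorem exists_two_of_pair [Fintype F] (h2 : Fintype.card F = 2) {l i x m : ℕ}
    {ps ps' : List (ℕ × ℕ)} (hok : pairOK D l i x m ps ps' = true) :
    ∃ a b : ↥(D.group F), Subgroup.closure ({a, b} : Set ↥(D.group F)) = ⊤ := by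
  simp only [pairOK, Bool.and_eq_true, decide_eq_true_eq, List.contains_iff_mem] at hok
  obtain ⟨⟨⟨⟨⟨⟨⟨⟨⟨⟨⟨⟨hl, hi⟩, h1⟩, h1'⟩, h3⟩, h3'⟩, h4⟩, hx⟩, h5⟩, h5'⟩, h6⟩, h7⟩, hrest⟩ :=
    hok
  have hG := hC.toGood
  have h20 := two_eq_zero_of_card hC h2
  have hneg : ∀ t : F, -t = t := fun t => by linear_combination (-t) * h20
  set w := List.range D.rank
  have hw : ∀ j ∈ w, j < D.rank := fun j hj => List.mem_range.1 hj
  set g := D.simple i
  set g' := D.neg g
  have hg := hG.simple_lt hi
  have hg' := hG.neg_lt hg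
  set u := xg D F g (1 : F) with hu
  set v := xg D F g' (1 : F) with hv
  set z := xg D F l (1 : F) with hz
  have sq1 : ∀ r, xg D F r (1 : F) * xg D F r 1 = 1 := fun r => by
    rw [← hG.xg_add, show (1 : F) + 1 = 2 by norm_num, h20, hG.xg_zero]
  have inv1 : ∀ r, (xg D F r (1 : F))⁻¹ = xg D F r 1 := fun r => inv_eq_of_mul_eq_one_right (sq1 r)
  have hy3 : (u * v) * (u * v) * (u * v) = 1 := by
    have e := hG.ng_conj_x (F := F) hi hg 1
    rw [hG.refl_simple hi] at e
    have heta : (eta D i g : F) * 1 = 1 := by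
      rw [mul_one]
      by_contra hne
      by_cases h0 : (eta D i g : F) = 0
      · rw [h0, zero_mul, hG.xg_zero, conj_eq_one_iff] at e
        exact one_ne_zero (hG.xg_injective hg (e.trans (hG.xg_zero g).symm))
      · exact hne (by
          have := FiniteField.pow_card_sub_one_eq_one _ h0
          rwa [h2, pow_one] at this)
    rw [heta, ng, inv_one, hneg, mul_inv_eq_iff_eq_mul] at e
    change u * v * u * u = v * (u * v * u) at e
    rw [mul_assoc _ u u, hu, sq1, mul_one] at e
    calc u * v * (u * v) * (u * v) = u * (v * (u * v * u)) * v := by group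
      _ = u * (u * v) * v := by rw [← e]
      _ = (u * u) * (v * v) := by group
      _ = 1 := by rw [hu, hv, sq1, sq1, one_mul]
  set y := u * v with hy
  set n := nw D F w
  set b := z * y with hb
  refine exists_two hC (a := n) (b := b) (nw_mem_group hC w)
    (mul_mem (hG.xg_mem_group _ _) (mul_mem (hG.xg_mem_group _ _) (hG.xg_mem_group _ _))) ?_
  set P := Subgroup.closure ({n, b} : Set (GL D.Idx F))
  have hn : n ∈ P := Subgroup.subset_closure (by simp)
  have hbP : b ∈ P := Subgroup.subset_closure (by simp)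
  have czy : Commute z y := (xg_commute hC hg hl h1 h1' h3 1 1).symm.mul_right
    (xg_commute hC hg' hl h1' h4 h3' 1 1).symm
  have hyP : y ∈ P := by
    have : b * b = y⁻¹ := by
      rw [hb, show z * y * (z * y) = z * (y * z) * y by group, ← czy.eq,
        show z * (z * y) * y = (z * z) * (y * y) by group, hz, sq1, one_mul]
      exact eq_inv_of_mul_eq_one_left hy3
    exact inv_mem_iff.1 (this ▸ P.mul_mem hbP hbP)
  have hzP : z ∈ P := by
    have := P.mul_mem hbP (P.inv_mem hyP)
    rwa [hb, mul_inv_cancel_right] at this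
  have hF0 : ∀ r ∈ runC D [1] [1] [] ps (orb D w l m), Full P r :=
    full_runC hC (by simp [addClosure_pow_one]) (by simp) (by simp) _
      (full_orb hC hw hn (full_of_one_of_card_two hC h2 ⟨hl, hzP⟩) m)
  obtain ⟨hxlt, hxP⟩ := hF0 x hx
  split at hrest
  · rename_i c hfil
    simp only [Bool.and_eq_true, decide_eq_true_eq] at hrest
    obtain ⟨hc1, hall⟩ := hrest
    have cv : Commute v (xg D F x 1) := xg_commute hC hg' hxlt h5' h6 h7 1 1
    have hW : wordG D F (D.commWord F g x 1 1) ∈ P := by
      have e := hC.xg_comm hg hxlt h5 h5' (1 : F) 1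
      have e2 : wordG D F (D.commWord F g x 1 1) =
          (xg D F x 1) * (y * xg D F x 1 * y⁻¹) := by
        rw [hy, mul_inv_rev, show u * v * xg D F x 1 * (v⁻¹ * u⁻¹) =
          u * (v * xg D F x 1 * v⁻¹) * u⁻¹ by group, cv.eq, mul_inv_cancel_right, inv1]
        rw [mul_assoc u, e, ← mul_assoc, ← mul_assoc, ← mul_assoc, mul_assoc _ u u, sq1, mul_one,
          sq1, one_mul]
      rw [e2]
      exact P.mul_mem (hxP 1) (P.mul_mem (P.mul_mem hyP (hxP 1)) (P.inv_mem hyP))
    simp only [wordG, ChevalleyDatum.commWord, List.map_map] at hW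
    have hk := mem_of_filter P _ (fun d : ℕ × ℤ × ℕ × ℕ =>
      !(runC D [1] [1] [] ps (orb D w l m)).contains d.1) (fun d hd => by
        simp only [Bool.not_eq_false', List.contains_iff_mem] at hd
        exact (hF0 _ hd).2 _) _ c hfil hW
    have hclt : c.1 < D.nroots := (hG.commTerms_coef hg hxlt (by
      rw [commW_std]; exact (List.mem_filter.1 (hfil ▸ List.mem_singleton_self c)).1)).1
    have hone : One P c.1 := by
      refine ⟨hclt, ?_⟩
      have : (c.2.1 : F) * (-1) ^ c.2.2.1 * 1 ^ c.2.2.2 = 1 := by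
        rw [hneg, one_pow, one_pow, mul_one, mul_one]
        rcases Int.natAbs_eq c.2.1 with e | e <;> rw [e, hc1] <;> simp [hneg]
      have hk' := (show xg D F c.1 ((c.2.1 : F) * (-1) ^ c.2.2.1 * 1 ^ c.2.2.2) ∈ P from hk)
      rwa [this] at hk'
    refine group_le_of_allR hC hall (full_runC hC ?_ (by simp) (by simp) _ fun r hr => ?_)
    · simp only [List.forall_mem_cons]
      exact ⟨addClosure_pow_one, addClosure_pow_two h2 (by norm_num),
        addClosure_pow_two h2 (by norm_num), by simp⟩
    · rcases List.mem_append.1 hr with hr | hr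
      · exact full_orb hC hw hn (full_of_one_of_card_two hC h2 hone) m r hr
      · exact hF0 r hr
  · exact absurd hrest (by simp)

end Cfsg.Agent.ChevGen
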