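/-
Unipotent elements of `SU` by their action, and a criterion for generation by one unipotent radical.
-/
import Cfsg.Agent.Lib.Unitary.Generation

set_option autoImplicit false

namespace Cfsg.Agent.ChevGen.SUGen

open Matrix Cfsg.Agent.Unitary

variable {F : Type*} [Field F] [Fintype F] {n q : ℕ} (hF : Fintype.card F = q ^ 2)

/-- `g` acts as `x ↦ x + h(x,u) w - h(x,w) u + b h(x,u) u`. -/
structure IsQel (g : SU n F q) (u w : Fin n → F) (b : F) : Prop where
  iso : herm q u u = 0
  perp : herm q w u = 0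
  act : ∀ x : Fin n → F, g • x = x + (herm q x u • w - herm q x w • u + (b * herm q x u) • u)

theorem IsQel.unique {g g' : SU n F q} {u w : Fin n → F} {b : F} (h : IsQel g u w b)
    (h' : IsQel g' u w b) : g = g' :=
  eq_of_smul_eq_SU fun x => (h.act x).trans (h'.act x).symm

include hF

theorem isQel_Qel {u w : Fin n → F} {b : F} (hu : herm q u u = 0) (hwu : herm q w u = 0)
    (hb : b + b ^ q = -herm q w w) : IsQel (Qel hF hu hwu hb) u w b :=
  ⟨hu, hwu, Qel_smul hF hu hwu hb⟩

theorem exists_isQel {u w : Fin n → F} (hu : herm q u u = 0) (hwu : herm q w u = 0) :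
    ∃ (g : SU n F q) (b : F), IsQel g u w b := by
  obtain ⟨b, hb⟩ := exists_trace_eq hF (t := -herm q w w) (by rw [neg_pow_q hF, herm_self_fixed hF])
  exact ⟨_, b, isQel_Qel hF hu hwu hb⟩

theorem exists_isQel_zero {u w : Fin n → F} (hu : herm q u u = 0) (hwu : herm q w u = 0)
    (hw : herm q w w = 0) : ∃ g : SU n F q, IsQel g u w 0 :=
  ⟨_, isQel_Qel hF hu hwu (b := 0) (by rw [hw, zero_pow_q hF, add_zero, neg_zero])⟩

theorem IsQel.conj {g : SU n F q} {u w : Fin n → F} {b : F} (h : IsQel g u w b) (k : SU n F q) :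
    IsQel (k * g * k⁻¹) (k • u) (k • w) b := by
  refine ⟨(herm_smul_SU k u u).trans h.iso, (herm_smul_SU k w u).trans h.perp, fun x => ?_⟩
  have e : ∀ z, herm q x (k • z) = herm q (k⁻¹ • x) z := fun z => by
    rw [← herm_smul_SU k (k⁻¹ • x), smul_inv_smul]
  rw [mul_smul, mul_smul, h.act, e u, e w, smul_add, smul_add, smul_sub, smul_inv_smul,
    smul_comm k, smul_comm k, smul_comm k]

theorem IsQel.mul {g g' : SU n F q} {u w w' : Fin n → F} {b b' : F} (h : IsQel g u w b)
    (h' : IsQel g' u w' b') : IsQel (g * g') u (w + w') (b + b' - herm q w' w) := by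
  refine ⟨h.iso, by rw [herm_add_left, h.perp, h'.perp, add_zero], fun x => ?_⟩
  have huw : herm q u w = 0 := (herm_eq_zero_comm hF).1 h.perp
  simp only [mul_smul, h.act, h'.act, herm_add_left, herm_sub_left, herm_smul_left,
    herm_add_right hF, h.iso, h.perp, h'.perp, huw]
  module

theorem IsQel.inv {g : SU n F q} {u w : Fin n → F} {b : F} (h : IsQel g u w b) :
    IsQel g⁻¹ u (-w) (-b - herm q w w) := by
  refine ⟨h.iso, by rw [herm_neg_left, h.perp, neg_zero], fun x => ?_⟩
  rw [inv_smul_eq_iff, h.act]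
  have huw : herm q u w = 0 := (herm_eq_zero_comm hF).1 h.perp
  simp only [herm_add_left, herm_sub_left, herm_smul_left, herm_neg_left, herm_neg_right hF,
    h.iso, h.perp, huw]
  module

theorem IsQel.smul_left {g : SU n F q} {u w : Fin n → F} {b μ : F} (h : IsQel g (μ • u) w b)
    (hμ : μ ≠ 0) : IsQel g u (μ ^ q • w) (μ ^ (q + 1) * b) := by
  have h1 := h.iso
  have h2 := h.perp
  rw [herm_smul_left, herm_smul_right hF, mul_eq_zero, mul_eq_zero] at h1
  rw [herm_smul_right hF, mul_eq_zero] at h2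
  have hμq : μ ^ q ≠ 0 := mt (pow_q_eq_zero_iff hF).1 hμ
  refine ⟨(h1.resolve_left hμ).resolve_left hμq, by
    rw [herm_smul_left, h2.resolve_left hμq, mul_zero], fun x => ?_⟩
  rw [h.act, herm_smul_right hF, herm_smul_right hF, pow_q_pow_q hF]
  match_scalars <;> ring

theorem IsQel.absorb {g : SU n F q} {u : Fin n → F} {a b : F} (h : IsQel g u (a • u) b) :
    IsQel g u 0 (b + a - a ^ q) := by
  refine ⟨h.iso, herm_zero_left u, fun x => ?_⟩
  rw [h.act, herm_smul_right hF, herm_zero_right hF]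
  module

theorem isQel_tv {u : Fin n → F} {c : F} (hu : herm q u u = 0) (hc : c + c ^ q = 0) :
    IsQel (tv hF hu hc) u 0 c :=
  ⟨hu, herm_zero_left u, fun x => by rw [tv_smul, herm_zero_right hF]; module⟩

theorem trace_of_isQel {g : SU n F q} {u v : Fin n → F} {c : F} (h : IsQel g u 0 c)
    (hv : herm q v v = 0) (huv : herm q u v = 1) : c + c ^ q = 0 := by
  have h2 := herm_smul_SU g v v
  rw [h.act, herm_zero_right hF] at h2
  simp only [herm_add_left, herm_sub_left, herm_smul_left, herm_add_right hF, herm_sub_right hF,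
    herm_smul_right hF, smul_zero, zero_smul, sub_zero, zero_add, h.iso, hv, huv,
    herm_one_swap hF huv] at h2
  linear_combination h2

/-- the vectors `w` with an element of the radical at `u` in `P` -/
def radW (P : Subgroup (SU n F q)) (u : Fin n → F) (hu : herm q u u = 0) :
    AddSubgroup (Fin n → F) where
  carrier := {w | ∃ (g : SU n F q) (b : F), IsQel g u w b ∧ g ∈ P}
  zero_mem' := ⟨1, 0, ⟨hu, herm_zero_left u, fun x => by rw [one_smul, herm_zero_right hF]; module⟩,
    P.one_mem⟩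
  add_mem' := by
    rintro a c ⟨g, b, hg, hgP⟩ ⟨g', b', hg', hgP'⟩
    exact ⟨g * g', _, hg.mul hF hg', P.mul_mem hgP hgP'⟩
  neg_mem' := by
    rintro a ⟨g, b, hg, hgP⟩
    exact ⟨g⁻¹, _, hg.inv hF, P.inv_mem hgP⟩

theorem radW_smul {P : Subgroup (SU n F q)} {u w : Fin n → F} (hu : herm q u u = 0) {k : SU n F q}
    (hk : k ∈ P) (hku : k • u = u) (hw : w ∈ radW hF P u hu) : k • w ∈ radW hF P u hu := by
  obtain ⟨g, b, hg, hgP⟩ := hw
  have := hg.conj hF k
  rw [hku] at this
  exact ⟨_, b, this, P.mul_mem (P.mul_mem hk hgP) (P.inv_mem hk)⟩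

theorem radW_diff {P : Subgroup (SU n F q)} {u w : Fin n → F} (hu : herm q u u = 0) {k : SU n F q}
    (hk : k ∈ P) (hku : k • u = u) (hw : w ∈ radW hF P u hu) {z : Fin n → F}
    (h : k • w = w + z) : z ∈ radW hF P u hu := by
  have := sub_mem (radW_smul hF hu hk hku hw) hw
  rwa [h, add_sub_cancel_left] at this

theorem mem_of_radW {P : Subgroup (SU n F q)} {u w : Fin n → F} (hu : herm q u u = 0)
    (hT : ∀ (g : SU n F q) (c : F), IsQel g u 0 c → g ∈ P) (hw : w ∈ radW hF P u hu)
    {g : SU n F q} {b : F} (hg : IsQel g u w b) : g ∈ P := by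
  obtain ⟨g', b', hg', hgP⟩ := hw
  have h := hg.mul hF (hg'.inv hF)
  rw [add_neg_cancel] at h
  have := P.mul_mem (hT _ _ h) hgP
  rwa [inv_mul_cancel_right] at this

/-- a full radical and a swap generate -/
theorem eq_top_of_radical (h32 : ¬ (n = 3 ∧ q = 2)) {P : Subgroup (SU n F q)} {u v : Fin n → F}
    (hu : herm q u u = 0) (hv : herm q v v = 0) (huv : herm q u v = 1)
    (hQ : ∀ (g : SU n F q) (w : Fin n → F) (b : F), IsQel g u w b → herm q w v = 0 → g ∈ P)
    {r : SU n F q} (hr : r ∈ P) {a : F} (ha : a ≠ 0) (hru : r • u = a • v) : P = ⊤ := by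
  have hvu : herm q v u = 1 := herm_one_swap hF huv
  -- the orbit of the point of `u`
  have main : ∀ y : Fin n → F, herm q y y = 0 → herm q y u ≠ 0 →
      ∃ g ∈ P, ∃ e : F, e ≠ 0 ∧ g • u = e • y := by
    intro y hy hyu
    set a' := herm q y u
    obtain ⟨z, hz⟩ : ∃ z, z = a'⁻¹ • y := ⟨_, rfl⟩
    have hzu : herm q z u = 1 := by rw [hz, herm_smul_left, inv_mul_cancel₀ hyu]
    have hzz : herm q z z = 0 := by
      rw [hz, herm_smul_left, herm_smul_right hF, hy, mul_zero, mul_zero]
    set β := herm q z v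
    set w := z - v - β • u with hw
    have hwu : herm q w u = 0 := by
      rw [hw, herm_sub_left, herm_sub_left, herm_smul_left, hzu, hvu, hu]; ring
    have hwv : herm q w v = 0 := by
      rw [hw, herm_sub_left, herm_sub_left, herm_smul_left, hv, huv]; ring
    have huw := (herm_eq_zero_comm hF).1 hwu
    have hvw := (herm_eq_zero_comm hF).1 hwv
    have hzw : z = v + w + β • u := by rw [hw]; module
    have hb : β + β ^ q = -herm q w w := by
      have := hzz
      rw [hzw] at this
      simp only [herm_add_left, herm_add_right hF, herm_smul_left, herm_smul_right hF, hu, hv, huv,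
        hvu, hwu, hwv, huw, hvw] at this
      linear_combination this
    have hg := isQel_Qel hF hu hwu hb
    refine ⟨Qel hF hu hwu hb * r, P.mul_mem (hQ _ _ _ hg hwv) hr, a * a'⁻¹,
      mul_ne_zero ha (inv_ne_zero hyu), ?_⟩
    rw [mul_smul, hru, smul_comm, hg.act, hvu, hvw, mul_smul a a'⁻¹ y, ← hz, hzw]
    congr 1
    module
  have main2 : ∀ y : Fin n → F, herm q y y = 0 → (herm q y u ≠ 0 ∨ herm q y v ≠ 0) →
      ∃ g ∈ P, ∃ e : F, e ≠ 0 ∧ g • u = e • y := by
    rintro y hy (h | h)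
    · exact main y hy h
    · obtain ⟨g, hg, e, he, hge⟩ := main (r⁻¹ • y) ((herm_smul_SU r⁻¹ y y).trans hy) (by
        rw [← herm_smul_SU r, smul_inv_smul, hru, herm_smul_right hF]
        exact mul_ne_zero (mt (pow_q_eq_zero_iff hF).1 ha) h)
      exact ⟨r * g, P.mul_mem hr hg, e, he, by rw [mul_smul, hge, smul_comm, smul_inv_smul]⟩
  have all : ∀ y : Fin n → F, herm q y y = 0 → y ≠ 0 → ∃ g ∈ P, ∃ e : F, e ≠ 0 ∧ g • u = e • y := by
    intro y hy hy0
    by_cases h : herm q y u ≠ 0 ∨ herm q y v ≠ 0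
    · exact main2 y hy h
    push_neg at h
    obtain ⟨p, -, -, hyp⟩ := exists_partner hF (S := ∅) (by simp [supp_empty]) hy hy0
    set w := p - herm q p v • u - herm q p u • v with hw
    have hwu : herm q w u = 0 := by
      rw [hw, herm_sub_left, herm_sub_left, herm_smul_left, herm_smul_left, hu, hvu]; ring
    have hwv : herm q w v = 0 := by
      rw [hw, herm_sub_left, herm_sub_left, herm_smul_left, herm_smul_left, hv, huv]; ring
    have hyw : herm q y w = 1 := by
      rw [hw, herm_sub_right hF, herm_sub_right hF, herm_smul_right hF, herm_smul_right hF, h.1,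
        h.2, hyp]
      ring
    obtain ⟨k, b, hk⟩ := exists_isQel hF hu hwu
    have hky : k • y = y - u := by rw [hk.act, h.1, hyw]; module
    obtain ⟨g, hg, e, he, hge⟩ := main2 (k • y) ((herm_smul_SU k y y).trans hy)
      (Or.inr (by rw [hky, herm_sub_left, h.2, huv]; simp))
    exact ⟨k⁻¹ * g, P.mul_mem (P.inv_mem (hQ _ _ _ hk hwv)) hg, e, he,
      by rw [mul_smul, hge, smul_comm, inv_smul_smul]⟩
  rw [eq_top_iff, ← tvGroup_empty hF h32, tvGroup, Subgroup.closure_le]
  rintro _ ⟨y, c, hy, hc, -, rfl⟩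
  by_cases hy0 : y = 0
  · subst hy0
    rw [show tv hF hy hc = 1 from eq_of_smul_eq_SU fun x => by simp [tv_smul]]
    exact P.one_mem
  obtain ⟨g, hg, e, he, hge⟩ := all y hy hy0
  have h1 := (isQel_tv hF hy hc).conj hF g⁻¹
  have e1 : g⁻¹ • y = e⁻¹ • u := by
    rw [inv_smul_eq_iff, smul_comm, hge, smul_smul, inv_mul_cancel₀ he, one_smul]
  rw [e1, smul_zero] at h1
  have h2 := h1.smul_left hF (inv_ne_zero he)
  rw [smul_zero] at h2
  have := P.mul_mem (P.mul_mem hg (hQ _ _ _ h2 (herm_zero_left v))) (P.inv_mem hg)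
  rw [inv_inv, show g * (g⁻¹ * tv hF hy hc * g) * g⁻¹ = tv hF hy hc by group] at this
  exact this

end Cfsg.Agent.ChevGen.SUGen
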