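/-
Witt frames of the Hermitian space and monomial elements of `SU`.
-/
import Cfsg.Agent.Lib.ChevGen.SUQel

set_option autoImplicit false

namespace Cfsg.Agent.ChevGen.SUGen

open Matrix Cfsg.Agent.Unitary

/-- indices of a Witt frame -/
abbrev Idx (l r : ℕ) : Type := (Fin l ⊕ Fin l) ⊕ Fin r

/-- the Gram matrix of a Witt frame -/
def gram (F : Type*) [Field F] (l r : ℕ) : Idx l r → Idx l r → F
  | .inl (.inl i), .inl (.inr j) => if i = j then 1 else 0
  | .inl (.inr i), .inl (.inl j) => if i = j then 1 else 0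
  | .inr a, .inr b => if a = b then 1 else 0
  | _, _ => 0

/-- the partner of an index -/
def partner {l r : ℕ} : Idx l r → Idx l r
  | .inl (.inl i) => .inl (.inr i)
  | .inl (.inr i) => .inl (.inl i)
  | .inr a => .inr a

variable {F : Type*} [Field F] [Fintype F] {n q : ℕ} (hF : Fintype.card F = q ^ 2)

theorem gram_partner {l r : ℕ} (j k : Idx l r) :
    gram F l r j (partner k) = if j = k then 1 else 0 := by
  rcases j with (i | i) | i <;> rcases k with (j' | j') | j' <;> simp [gram, partner]

/-- a Witt frame -/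
structure Frame (F : Type*) [Field F] (n q l r : ℕ) where
  /-- the vectors -/
  e : Module.Basis (Idx l r) F (Fin n → F)
  /-- their products -/
  herm_e : ∀ j k, herm q (e j) (e k) = gram F l r j k

include hF

theorem exists_frame {l r : ℕ} (hn : n = 2 * l + r) (hr : r ≤ 1) :
    Nonempty (Frame F n q l r) := by
  classical
  have hi : ∀ i : Fin l, (⟨2 * i.val, by omega⟩ : Fin n) ≠ ⟨2 * i.val + 1, by omega⟩ := fun i => by
    simp [Fin.ext_iff]
  choose u v hu hv huu hvv huv using fun i : Fin l => exists_std_pair hF (hi i)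
  let f : Idx l r → Fin n → F := fun j => match j with
    | .inl (.inl i) => u i
    | .inl (.inr i) => v i
    | .inr a => eI ⟨2 * l + a.val, by omega⟩
  let blk : Idx l r → Finset (Fin n) := fun j => match j with
    | .inl (.inl i) => {⟨2 * i.val, by omega⟩, ⟨2 * i.val + 1, by omega⟩}
    | .inl (.inr i) => {⟨2 * i.val, by omega⟩, ⟨2 * i.val + 1, by omega⟩}
    | .inr a => {⟨2 * l + a.val, by omega⟩}
  have hsupp : ∀ j k, k ∉ blk j → f j k = 0 := by
    intro j k hk
    rcases j with (i | i) | a
    · exact hu i k (Finset.mem_compl.2 hk)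
    · exact hv i k (Finset.mem_compl.2 hk)
    · simp only [blk, Finset.mem_singleton] at hk
      simp [f, eI, hk]
  have hdis : ∀ j k : Idx l r, Disjoint (blk j) (blk k) → herm q (f j) (f k) = 0 := by
    intro j k hd
    refine Finset.sum_eq_zero fun x _ => ?_
    by_cases hx : x ∈ blk j
    · rw [hsupp k x (Finset.disjoint_left.1 hd hx), zero_pow_q hF, mul_zero]
    · rw [hsupp j x hx, zero_mul]
  have hgram : ∀ j k, herm q (f j) (f k) = gram F l r j k := by
    have d : ∀ (i i' : Fin l), i ≠ i' → Disjoint ({⟨2 * i.val, by omega⟩, ⟨2 * i.val + 1, by omega⟩} : Finset (Fin n))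
        {⟨2 * i'.val, by omega⟩, ⟨2 * i'.val + 1, by omega⟩} := fun i i' h => by
      have : i.val ≠ i'.val := fun e => h (Fin.ext e)
      simp [Fin.ext_iff]; omega
    have d' : ∀ (i : Fin l) (a : Fin r), Disjoint ({⟨2 * i.val, by omega⟩, ⟨2 * i.val + 1, by omega⟩} : Finset (Fin n))
        {⟨2 * l + a.val, by omega⟩} := fun i a => by
      simp [Fin.ext_iff]; omega
    intro j k
    rcases j with (i | i) | a <;> rcases k with (i' | i') | a'
    · by_cases h : i = i'
      · subst h; exact huu i
      · exact hdis (.inl (.inl i)) (.inl (.inl i')) (d i i' h)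
    · by_cases h : i = i'
      · subst h; simpa [f, gram] using huv i
      · simpa [gram, h] using hdis (.inl (.inl i)) (.inl (.inr i')) (d i i' h)
    · exact hdis (.inl (.inl i)) (.inr a') (d' i a')
    · by_cases h : i = i'
      · subst h; simpa [f, gram] using herm_one_swap hF (huv i)
      · simpa [gram, h] using hdis (.inl (.inr i)) (.inl (.inl i')) (d i i' h)
    · by_cases h : i = i'
      · subst h; exact hvv i
      · exact hdis (.inl (.inr i)) (.inl (.inr i')) (d i i' h)
    · exact hdis (.inl (.inr i)) (.inr a') (d' i a')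
    · exact hdis (.inr a) (.inl (.inl i')) (d' i' a).symm
    · exact hdis (.inr a) (.inl (.inr i')) (d' i' a).symm
    · simp [f, gram, herm_eI_eI hF, Fin.ext_iff]
  have hli : LinearIndependent F f := by
    rw [Fintype.linearIndependent_iff]
    intro c hc j
    have h := congrArg (fun x => herm q x (f (partner j))) hc
    rw [herm_sum_left, herm_zero_left] at h
    simpa only [herm_smul_left, hgram, gram_partner, mul_ite, mul_one, mul_zero, Finset.sum_ite_eq',
      Finset.mem_univ, if_true] using h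
  rcases isEmpty_or_nonempty (Idx l r) with he | he
  · have : n = 0 := by
      rcases Nat.eq_zero_or_pos l with hl | hl
      · rcases Nat.eq_zero_or_pos r with hr' | hr'
        · omega
        · exact (he.false (.inr ⟨0, hr'⟩)).elim
      · exact (he.false (.inl (.inl ⟨0, hl⟩))).elim
    subst this
    exact ⟨⟨Module.Basis.empty _, fun j => isEmptyElim j⟩⟩
  refine ⟨⟨basisOfLinearIndependentOfCardEqFinrank hli ?_, fun j k => ?_⟩⟩
  · rw [Module.finrank_fin_fun, Fintype.card_sum, Fintype.card_sum, Fintype.card_fin,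
      Fintype.card_fin, hn, two_mul]
  · simpa using hgram j k

variable {l r : ℕ} (B : Frame F n q l r)

/-- monomial elements with determinant one -/
theorem exists_mono (σ : Equiv.Perm (Idx l r)) (s : Idx l r → F)
    (hgram : ∀ j k, s j * s k ^ q * gram F l r (σ j) (σ k) = gram F l r j k)
    (hdet : ((Equiv.Perm.sign σ : ℤ) : F) * ∏ j, s j = 1) :
    ∃ g : SU n F q, ∀ j, g • B.e j = s j • B.e (σ j) := by
  classical
  set L : (Fin n → F) →ₗ[F] (Fin n → F) := B.e.constr F fun j => s j • B.e (σ j) with hL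
  have hLe : ∀ j, L (B.e j) = s j • B.e (σ j) := fun j => B.e.constr_basis F _ j
  have hform : ∀ x y, herm q (L x) (L y) = herm q x y := by
    intro x y
    have hb : ∀ j k, herm q (L (B.e j)) (L (B.e k)) = herm q (B.e j) (B.e k) := fun j k => by
      rw [hLe, hLe, herm_smul_left, herm_smul_right hF, B.herm_e, B.herm_e, ← hgram j k, mul_assoc]
    have h1 : ∀ (j : Idx l r) y, herm q (L (B.e j)) (L y) = herm q (B.e j) y := by
      intro j y
      show hermB hF n (L y) (L (B.e j)) = hermB hF n y (B.e j)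
      rw [← B.e.sum_repr y]
      simp only [map_sum, map_smul, LinearMap.map_smulₛₗ, LinearMap.sum_apply, LinearMap.smul_apply,
        hermB_apply, hb]
    show hermB hF n (L y) (L x) = hermB hF n y x
    rw [← B.e.sum_repr x]
    simp only [map_sum, map_smul, hermB_apply, h1]
  have hd : LinearMap.det L = 1 := by
    have h := Module.Basis.det_comp (e := B.e) L (v := B.e)
    rw [B.e.det_self, mul_one] at h
    rw [← h, show (⇑L ∘ ⇑B.e) = fun j => s j • (⇑B.e ∘ σ) j from funext hLe,
      AlternatingMap.map_smul_univ, AlternatingMap.map_perm, B.e.det_self, smul_eq_mul,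
      Units.smul_def, zsmul_one, mul_comm]
    exact hdet
  refine ⟨⟨⟨LinearMap.toMatrix' L, by rw [LinearMap.det_toMatrix', hd]⟩, fun x y => ?_⟩, fun j => ?_⟩
  · show herm q (LinearMap.toMatrix' L *ᵥ x) (LinearMap.toMatrix' L *ᵥ y) = herm q x y
    rw [LinearMap.toMatrix'_mulVec, LinearMap.toMatrix'_mulVec]
    exact hform x y
  · show LinearMap.toMatrix' L *ᵥ B.e j = _
    rw [LinearMap.toMatrix'_mulVec]
    exact hLe j

/-- two elements of `SU` agreeing on a frame are equal -/
theorem eq_of_frame {g g' : SU n F q} (h : ∀ j, g • B.e j = g' • B.e j) : g = g' := by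
  refine eq_of_smul_eq_SU fun x => ?_
  rw [← B.e.sum_repr x, Finset.smul_sum, Finset.smul_sum]
  exact Finset.sum_congr rfl fun j _ => by rw [smul_comm g, h, smul_comm g']

section ops

variable [NeZero l]

/-- the monomial element `u_i ↦ u_{i+1}`, closing up through `v_0` -/
theorem exists_rot {γ : F} (hγ0 : γ ≠ 0) (hγ : γ + γ ^ q = 0) :
    ∃ g : SU n F q,
      (∀ i : Fin l, i + 1 ≠ 0 → g • B.e (.inl (.inl i)) = B.e (.inl (.inl (i + 1))) ∧
        g • B.e (.inl (.inr i)) = B.e (.inl (.inr (i + 1)))) ∧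
      (∀ i : Fin l, i + 1 = 0 → g • B.e (.inl (.inl i)) = γ • B.e (.inl (.inr 0)) ∧
        g • B.e (.inl (.inr i)) = (γ ^ q)⁻¹ • B.e (.inl (.inl 0))) ∧
      ∀ a, g • B.e (.inr a) = B.e (.inr a) := by
  classical
  let σ : Equiv.Perm (Idx l r) :=
    ((Equiv.addRight (1 : Fin l)).sumCongr (Equiv.addRight (1 : Fin l))).sumCongr
        (Equiv.refl (Fin r)) |>.trans (Equiv.swap (.inl (.inl 0)) (.inl (.inr 0)))
  let s : Idx l r → F := fun j => match j with
    | .inl (.inl i) => if i + 1 = 0 then γ else 1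
    | .inl (.inr i) => if i + 1 = 0 then (γ ^ q)⁻¹ else 1
    | .inr _ => 1
  have sw : ∀ i : Fin l, σ (.inl (.inl i)) = (if i + 1 = 0 then .inl (.inr 0) else .inl (.inl (i + 1))) ∧
      σ (.inl (.inr i)) = (if i + 1 = 0 then .inl (.inl 0) else .inl (.inr (i + 1))) := fun i => by
    by_cases h : i + 1 = 0
    · simp [σ, h]
    · simp [σ, h, Equiv.swap_apply_def]
  have sr : ∀ a, σ (.inr a) = .inr a := fun a => by simp [σ, Equiv.swap_apply_def]
  have hγq : γ ^ q ≠ 0 := mt (pow_q_eq_zero_iff hF).1 hγ0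
  have hgram : ∀ j k, s j * s k ^ q * gram F l r (σ j) (σ k) = gram F l r j k := by
    intro j k
    rcases j with (i | i) | a <;> rcases k with (i' | i') | a' <;>
      (try rw [(sw i).1]) <;> (try rw [(sw i).2]) <;> (try rw [(sw i').1]) <;> (try rw [(sw i').2]) <;>
      simp only [s, sr] <;>
      (try by_cases hi : i + 1 = 0) <;> (try by_cases hi' : i' + 1 = 0) <;>
      simp [*, gram, inv_pow, pow_q_pow_q hF, Ne.symm] <;>
      (try (intro e; subst e; simp_all)) <;>
      (try exact add_right_cancel (hi.trans hi'.symm))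
  have hdet : ((Equiv.Perm.sign σ : ℤ) : F) * ∏ j, s j = 1 := by
    have hlast : ∀ i : Fin l, i + 1 = 0 ↔ i = -1 := fun i => by rw [add_eq_zero_iff_eq_neg]
    have hp : ∏ j, s j = γ * (γ ^ q)⁻¹ := by
      simp only [Fintype.prod_sum_type, s, hlast, Finset.prod_ite_eq', Finset.mem_univ, if_true,
        Finset.prod_const_one, mul_one]
    have hsgn : Equiv.Perm.sign σ = -1 := by
      simp only [σ, Equiv.Perm.sign_trans, Equiv.Perm.sign_sumCongr, Equiv.Perm.sign_refl, mul_one,
        Int.units_mul_self, Equiv.Perm.sign_swap (show (Sum.inl (Sum.inl 0) : Idx l r) ≠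
          Sum.inl (Sum.inr 0) by simp)]
    rw [hsgn, hp, eq_neg_of_add_eq_zero_right hγ]
    simp [hγ0]
  obtain ⟨g, hg⟩ := exists_mono hF B σ s hgram hdet
  refine ⟨g, fun i hi => ?_, fun i hi => ?_, fun a => ?_⟩
  · simp [hg, sw, s, hi]
  · simp [hg, sw, s, hi]
  · simp [hg, sr, s]

/-- diagonal elements -/
theorem exists_tor (μ : Fin l → Fˣ) (ν : Fˣ) (hν : r = 0 → ν = 1) (hr : r ≤ 1)
    (hνμ : (ν : F) = ∏ i, (μ i : F) ^ q / μ i) :
    ∃ g : SU n F q, (∀ i, g • B.e (.inl (.inl i)) = (μ i : F) • B.e (.inl (.inl i)) ∧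
        g • B.e (.inl (.inr i)) = ((μ i : F) ^ q)⁻¹ • B.e (.inl (.inr i))) ∧
      ∀ a, g • B.e (.inr a) = (ν : F) • B.e (.inr a) := by
  classical
  let s : Idx l r → F := fun j => match j with
    | .inl (.inl i) => μ i
    | .inl (.inr i) => ((μ i : F) ^ q)⁻¹
    | .inr _ => ν
  have hνn : (ν : F) * (ν : F) ^ q = 1 := by
    rw [hνμ, ← Finset.prod_pow, ← Finset.prod_mul_distrib]
    refine Finset.prod_eq_one fun i _ => ?_
    have h0 := (μ i).ne_zero
    rw [div_pow, pow_q_pow_q hF]
    field_simp
  have hgram : ∀ j k, s j * s k ^ q * gram F l r j k = gram F l r j k := by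
    intro j k
    rcases j with (i | i) | a <;> rcases k with (i' | i') | a' <;> simp only [gram, mul_zero]
    · by_cases h : i = i'
      · subst h; simp [s, inv_pow, pow_q_pow_q hF]
      · simp [h]
    · by_cases h : i = i'
      · subst h; simp [s]
      · simp [h]
    · by_cases h : a = a'
      · subst h; simp [s, hνn]
      · simp [h]
  have hdet : ((Equiv.Perm.sign (1 : Equiv.Perm (Idx l r)) : ℤ) : F) * ∏ j, s j = 1 := by
    have e : ((∏ i, (μ i : F)) * ∏ i, ((μ i : F) ^ q)⁻¹) * (ν : F) = 1 := by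
      rw [hνμ, ← Finset.prod_mul_distrib, ← Finset.prod_mul_distrib]
      refine Finset.prod_eq_one fun i _ => ?_
      have h0 := (μ i).ne_zero
      field_simp
    simp only [Equiv.Perm.sign_one, Units.val_one, Int.cast_one, one_mul, Fintype.prod_sum_type, s,
      Finset.prod_const, Finset.card_univ, Fintype.card_fin]
    interval_cases r
    · rw [hν rfl, Units.val_one, mul_one] at e
      simpa using e
    · simpa using e
  obtain ⟨g, hg⟩ := exists_mono hF B 1 s hgram hdet
  exact ⟨g, fun i => ⟨hg _, hg _⟩, fun a => hg _⟩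

end ops

end Cfsg.Agent.ChevGen.SUGen
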