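/-
Steinberg's trick in an abstract group: a torus element and a root element times a monomial element.
-/
import Mathlib

set_option autoImplicit false

namespace Cfsg.Agent.ChevGen

variable {G F : Type*} [Group G] [Field F]

/-- from a torus element, the root elements with one non-zero parameter give all of them -/
theorem root_mem_of_line {x : F → G} (hadd : ∀ a b, x (a + b) = x a * x b) {P : Subgroup G} {h : G}
    (hh : h ∈ P) {c : F} (hconj : ∀ t, h * x t * h⁻¹ = x (c * t))
    (hc : Subring.closure ({c} : Set F) = ⊤) {d : F} (hd : d ≠ 0) (hmem : x d ∈ P) (t : F) :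
    x t ∈ P := by
  have h0 : x 0 = 1 := by simpa using hadd 0 0
  have hneg : ∀ a, x (-a) = (x a)⁻¹ := fun a =>
    (inv_eq_of_mul_eq_one_right (by rw [← hadd, add_neg_cancel, h0])).symm
  let T : Subring F :=
    { carrier := {v | ∀ u, x u ∈ P → x (v * u) ∈ P}
      one_mem' := fun u hu => by simpa using hu
      mul_mem' := fun {a b} ha hb u hu => by rw [mul_assoc]; exact ha _ (hb _ hu)
      zero_mem' := fun u _ => by rw [zero_mul, h0]; exact P.one_mem
      add_mem' := fun {a b} ha hb u hu => by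
        rw [add_mul, hadd]; exact P.mul_mem (ha _ hu) (hb _ hu)
      neg_mem' := fun {a} ha u hu => by rw [neg_mul, hneg]; exact P.inv_mem (ha _ hu) }
  have hT : T = ⊤ := top_le_iff.1 (hc.symm.le.trans (Subring.closure_le.2 (by
    intro v hv u hu
    rw [Set.mem_singleton_iff.1 hv]
    rw [← hconj]
    exact P.mul_mem (P.mul_mem hh hu) (P.inv_mem hh))))
  have := (show t / d ∈ T by rw [hT]; trivial) d hmem
  rwa [div_mul_cancel₀ _ hd] at this

/-- `h` and `b = x(1) n` give the whole root group of `x` and the monomial element `n` -/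
theorem steinberg_step {x : F → G} (hadd : ∀ a b, x (a + b) = x a * x b) {P : Subgroup G}
    {h h' n : G} (hn : n * h * n⁻¹ = h') (hcomm : Commute h h') {c c' : F}
    (h1 : ∀ t, h * x t * h⁻¹ = x (c * t)) (h2 : ∀ t, h' * x t * h'⁻¹ = x (c' * t))
    (hc : c ≠ 1) (hc' : c' ≠ 1) (hc'0 : c' ≠ 0) (hgen : Subring.closure ({c} : Set F) = ⊤)
    (hh : h ∈ P) (hb : x 1 * n ∈ P) : (∀ t, x t ∈ P) ∧ n ∈ P := by
  have h0 : x 0 = 1 := by simpa using hadd 0 0
  have hneg : ∀ a, x (-a) = (x a)⁻¹ := fun a =>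
    (inv_eq_of_mul_eq_one_right (by rw [← hadd, add_neg_cancel, h0])).symm
  set d : F := c'⁻¹ + -1 with hd
  have hg1 : h' * x d ∈ P := by
    have h3 : x 1 * h' = h' * x c'⁻¹ := by
      have := h2 c'⁻¹
      rw [mul_inv_cancel₀ hc'0] at this
      rw [← this]; group
    have e : x 1 * n * h * (x 1 * n)⁻¹ = h' * x d := by
      rw [show x 1 * n * h * (x 1 * n)⁻¹ = x 1 * (n * h * n⁻¹) * (x 1)⁻¹ by group, hn, h3, hd,
        hadd, hneg, mul_assoc]
    rw [← e]
    exact P.mul_mem (P.mul_mem hb hh) (P.inv_mem hb)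
  have hx : x (c' * (c * d + -d)) ∈ P := by
    have e : h * (h' * x d) * h⁻¹ * (h' * x d)⁻¹ = x (c' * (c * d + -d)) := by
      rw [← h2, hadd (c * d) (-d), ← h1, hneg, ← mul_assoc h, hcomm.eq]
      group
    rw [← e]
    exact P.mul_mem (P.mul_mem (P.mul_mem hh hg1) (P.inv_mem hh)) (P.inv_mem hg1)
  have hne : c' * (c * d + -d) ≠ 0 := by
    refine mul_ne_zero hc'0 ?_
    rw [show c * d + -d = (c - 1) * d by ring, hd, ← sub_eq_add_neg]
    exact mul_ne_zero (sub_ne_zero.2 hc) (sub_ne_zero.2 fun e => hc' (inv_eq_one.1 e))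
  have hall := root_mem_of_line hadd hh h1 hgen hne hx
  refine ⟨hall, ?_⟩
  have := P.mul_mem (P.inv_mem (hall 1)) hb
  rwa [inv_mul_cancel_left] at this

/-- a generator of the unit group generates the field as a ring -/
theorem subringClosure_gen [Finite F] {k : Fˣ} (hk : ∀ u : Fˣ, u ∈ Subgroup.zpowers k) :
    Subring.closure ({(k : F)} : Set F) = ⊤ := by
  refine top_le_iff.1 fun t _ => ?_
  by_cases ht : t = 0
  · rw [ht]; exact zero_mem _
  obtain ⟨n, hn⟩ := Submonoid.mem_powers_iff _ _ |>.1 (mem_powers_iff_mem_zpowers.2 (hk (Units.mk0 t ht)))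
  have e : t = (k : F) ^ n := by
    have := congrArg Units.val hn
    rw [Units.val_pow_eq_pow_val, Units.val_mk0] at this
    exact this.symm
  rw [e]
  exact pow_mem (Subring.subset_closure (Set.mem_singleton _)) n

/-- a generator of the unit group is not `1` when the field has more than two elements -/
theorem gen_ne_one [Fintype F] (hq : 2 < Fintype.card F) {k : Fˣ}
    (hk : ∀ u : Fˣ, u ∈ Subgroup.zpowers k) : (k : F) ≠ 1 := by
  classical
  intro h
  have h' : k = 1 := Units.ext h
  have h1 : Fintype.card Fˣ ≤ 1 := Fintype.card_le_one_iff.2 fun a b => by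
    obtain ⟨i, rfl⟩ := hk a; obtain ⟨j, rfl⟩ := hk b; simp [h']
  rw [Fintype.card_units] at h1
  omega

/-- images of two generators generate a quotient -/
theorem exists_two_quotient (N : Subgroup G) [N.Normal] {a b : G}
    (h : Subgroup.closure ({a, b} : Set G) = ⊤) :
    ∃ a b : G ⧸ N, Subgroup.closure ({a, b} : Set (G ⧸ N)) = ⊤ := by
  refine ⟨QuotientGroup.mk' N a, QuotientGroup.mk' N b, ?_⟩
  rw [← Set.image_pair, ← MonoidHom.map_closure, h,
    Subgroup.map_top_of_surjective _ (QuotientGroup.mk'_surjective N)]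

end Cfsg.Agent.ChevGen
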