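/-
Two generators of the special unitary group.
-/
import Cfsg.Agent.Lib.ChevGen.SUFrame
import Cfsg.Agent.Lib.ChevGen.Step

set_option autoImplicit false

namespace Cfsg.Agent.ChevGen.SUGen

open Matrix Cfsg.Agent.Unitary

/-- Steinberg's trick for fibred root elements -/
theorem fibre_step {G F : Type*} [Group G] [Field F] {X : F → G → Prop}
    (hmul : ∀ s t a b, X s a → X t b → X (s + t) (a * b)) (hinv : ∀ s a, X s a → X (-s) a⁻¹)
    {P : Subgroup G} {h h' n y : G} (hn : n * h * n⁻¹ = h') (hcomm : Commute h h') {c c' : F}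
    (h1 : ∀ t a, X t a → X (c * t) (h * a * h⁻¹))
    (h2 : ∀ t a, X t a → X (c'⁻¹ * t) (h'⁻¹ * a * h'))
    (h2' : ∀ t a, X t a → X (c' * t) (h' * a * h'⁻¹))
    (hc : c ≠ 1) (hc' : c' ≠ 1) (hc'0 : c' ≠ 0) (hgen : Subring.closure ({c} : Set F) = ⊤)
    (hy : X 1 y) (hh : h ∈ P) (hb : y * n ∈ P) (t : F) : ∃ a, X t a ∧ a ∈ P := by
  obtain ⟨z, hz⟩ : ∃ z, z = h'⁻¹ * y * h' * y⁻¹ := ⟨_, rfl⟩
  set d := c'⁻¹ * 1 + -1 with hd
  have hzX : X d z := hz ▸ hmul _ _ _ _ (h2 _ _ hy) (hinv _ _ hy)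
  have hg1 : h' * z ∈ P := by
    have e : h' * z = y * n * h * (y * n)⁻¹ := by
      rw [hz, show y * n * h * (y * n)⁻¹ = y * (n * h * n⁻¹) * y⁻¹ by group, hn]; group
    rw [e]
    exact P.mul_mem (P.mul_mem hb hh) (P.inv_mem hb)
  set w := h' * (h * z * h⁻¹ * z⁻¹) * h'⁻¹ with hw
  have hwX : X (c' * (c * d + -d)) w := h2' _ _ (hmul _ _ _ _ (h1 _ _ hzX) (hinv _ _ hzX))
  have hwP : w ∈ P := by
    have e : w = h * (h' * z) * h⁻¹ * (h' * z)⁻¹ := by
      rw [hw, ← mul_assoc h, hcomm.eq]; group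
    rw [e]
    exact P.mul_mem (P.mul_mem (P.mul_mem hh hg1) (P.inv_mem hh)) (P.inv_mem hg1)
  have hne : c' * (c * d + -d) ≠ 0 := by
    refine mul_ne_zero hc'0 ?_
    rw [show c * d + -d = (c - 1) * d by ring, hd, mul_one, ← sub_eq_add_neg]
    exact mul_ne_zero (sub_ne_zero.2 hc) (sub_ne_zero.2 fun e => hc' (inv_eq_one.1 e))
  let T : Subring F :=
    { carrier := {v | ∀ u, (∃ a, X u a ∧ a ∈ P) → ∃ a, X (v * u) a ∧ a ∈ P}
      one_mem' := fun u hu => by simpa using hu
      mul_mem' := fun {a b} ha hb u hu => by rw [mul_assoc]; exact ha _ (hb _ hu)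
      zero_mem' := fun u ⟨a, ha, haP⟩ => ⟨a * a⁻¹, by
        have := hmul _ _ _ _ ha (hinv _ _ ha)
        rwa [add_neg_cancel, ← zero_mul u] at this, P.mul_mem haP (P.inv_mem haP)⟩
      add_mem' := fun {a b} ha hb u hu => by
        obtain ⟨x, hx, hxP⟩ := ha _ hu
        obtain ⟨x', hx', hxP'⟩ := hb _ hu
        exact ⟨x * x', by rw [add_mul]; exact hmul _ _ _ _ hx hx', P.mul_mem hxP hxP'⟩
      neg_mem' := fun {a} ha u hu => by
        obtain ⟨x, hx, hxP⟩ := ha _ hu
        exact ⟨x⁻¹, by rw [neg_mul]; exact hinv _ _ hx, P.inv_mem hxP⟩ }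
  have hT : T = ⊤ := top_le_iff.1 (hgen.symm.le.trans (Subring.closure_le.2 (by
    intro v hv u ⟨a, ha, haP⟩
    rw [Set.mem_singleton_iff.1 hv]
    exact ⟨_, h1 _ _ ha, P.mul_mem (P.mul_mem hh haP) (P.inv_mem hh)⟩)))
  have := (show t / (c' * (c * d + -d)) ∈ T by rw [hT]; trivial) _ ⟨w, hwX, hwP⟩
  rwa [div_mul_cancel₀ _ hne] at this

variable {F : Type*} [Field F] [Fintype F] {n q : ℕ} (hF : Fintype.card F = q ^ 2)

include hF

theorem subringClosure_of_big {x : F} (hx : x ≠ 0) (hbig : q - 1 < orderOf x) :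
    Subring.closure ({x} : Set F) = ⊤ := by
  classical
  set R := Subring.closure ({x} : Set F)
  letI : Field R := Fintype.fieldOfDomain R
  by_contra hne
  have hcard := Module.card_eq_pow_finrank (K := R) (V := F)
  have hxR : x ∈ R := Subring.subset_closure rfl
  have h1 : (⟨x, hxR⟩ : R) ^ (Fintype.card R - 1) = 1 :=
    FiniteField.pow_card_sub_one_eq_one _ fun e => hx (congrArg Subtype.val e)
  have h2 : orderOf x ∣ Fintype.card R - 1 :=
    orderOf_dvd_of_pow_eq_one (by simpa using congrArg Subtype.val h1)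
  have hr1 : 1 < Fintype.card R := Fintype.one_lt_card
  have h3 : orderOf x ≤ Fintype.card R - 1 := Nat.le_of_dvd (by omega) h2
  have hfr : 2 ≤ Module.finrank R F := by
    by_contra hlt
    interval_cases hd : Module.finrank R F
    · rw [pow_zero] at hcard
      have := Fintype.one_lt_card (α := F); omega
    · rw [pow_one] at hcard
      refine hne (eq_top_iff.2 fun y _ => ?_)
      obtain ⟨a, ha⟩ := ((Fintype.bijective_iff_injective_and_card _).2
        ⟨Subtype.val_injective (p := (· ∈ R)), hcard.symm⟩).2 y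
      exact ha ▸ a.2
  have h4 : Fintype.card R ^ 2 ≤ q ^ 2 := by
    rw [← hF, hcard]
    exact Nat.pow_le_pow_right (by omega) hfr
  have := (Nat.pow_le_pow_iff_left two_ne_zero).1 h4
  omega

variable {l r : ℕ} [NeZero l] (B : Frame F n q l r)

/-- the vector `u_i` -/
noncomputable abbrev fu (i : Fin l) : Fin n → F := B.e (.inl (.inl i))

/-- the vector `v_i` -/
noncomputable abbrev fv (i : Fin l) : Fin n → F := B.e (.inl (.inr i))

/-- the monomial element and its equations -/
structure IsRot (g : SU n F q) (γ : F) : Prop where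
  step : ∀ i : Fin l, i + 1 ≠ 0 → g • fu B i = fu B (i + 1) ∧ g • fv B i = fv B (i + 1)
  last : ∀ i : Fin l, i + 1 = 0 → g • fu B i = γ • fv B 0 ∧ g • fv B i = (γ ^ q)⁻¹ • fu B 0
  fix : ∀ a, g • B.e (.inr a) = B.e (.inr a)
  ne : γ ≠ 0

omit hF [NeZero l] in
theorem gr_uu (i j : Fin l) : herm q (fu B i) (fu B j) = 0 := by simp [B.herm_e, gram]

omit hF [NeZero l] in
theorem gr_vv (i j : Fin l) : herm q (fv B i) (fv B j) = 0 := by simp [B.herm_e, gram]

omit hF [NeZero l] in
theorem gr_uv (i j : Fin l) : herm q (fu B i) (fv B j) = if i = j then 1 else 0 := by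
  simp [B.herm_e, gram]

omit hF [NeZero l] in
theorem gr_vu (i j : Fin l) : herm q (fv B i) (fu B j) = if i = j then 1 else 0 := by
  simp [B.herm_e, gram]

omit hF [NeZero l] in
theorem gr_wu (a : Fin r) (i : Fin l) : herm q (B.e (.inr a)) (fu B i) = 0 := by
  simp [B.herm_e, gram]

omit hF [NeZero l] in
theorem gr_wv (a : Fin r) (i : Fin l) : herm q (B.e (.inr a)) (fv B i) = 0 := by
  simp [B.herm_e, gram]

omit hF [NeZero l] in
theorem gr_uw (a : Fin r) (i : Fin l) : herm q (fu B i) (B.e (.inr a)) = 0 := by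
  simp [B.herm_e, gram]

omit hF [NeZero l] in
theorem gr_vw (a : Fin r) (i : Fin l) : herm q (fv B i) (B.e (.inr a)) = 0 := by
  simp [B.herm_e, gram]

omit hF [NeZero l] in
theorem gr_ww (a : Fin r) : herm q (B.e (.inr a)) (B.e (.inr a)) = 1 := by simp [B.herm_e, gram]

omit hF in
theorem fin_step {i : ℕ} (hi : i + 1 < l) :
    Fin.ofNat l i + 1 = Fin.ofNat l (i + 1) ∧ Fin.ofNat l i + 1 ≠ 0 := by
  have e : Fin.ofNat l i + 1 = Fin.ofNat l (i + 1) := by ext; simp [Fin.val_add]
  exact ⟨e, by rw [e]; simp [Fin.ext_iff, Nat.mod_eq_of_lt hi]⟩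

omit hF in
theorem fin_last : Fin.ofNat l (l - 1) + 1 = (0 : Fin l) := by
  ext; simp [Fin.val_add, Nat.sub_add_cancel (Nat.one_le_iff_ne_zero.2 (NeZero.ne l))]

omit hF in
theorem fin_ne {i j : ℕ} (hi : i < l) (hj : j < l) (h : i ≠ j) : Fin.ofNat l i ≠ Fin.ofNat l j := by
  simp [Fin.ext_iff, Nat.mod_eq_of_lt hi, Nat.mod_eq_of_lt hj, h]

omit hF in
theorem fin_zero : Fin.ofNat l 0 = (0 : Fin l) := Fin.ext (Nat.zero_mod l)

theorem heis_center {P : Subgroup (SU n F q)} {o : Fin r}
    (hH : ∀ t : F, ∃ (g : SU n F q) (b : F), IsQel g (fu B 0) (t • B.e (.inr o)) b ∧ g ∈ P) :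
    ∀ (g : SU n F q) (c : F), IsQel g (fu B 0) 0 c → g ∈ P := by
  intro g c hg
  have hc := trace_of_isQel hF hg (gr_vv B 0 0) (by simp [gr_uv])
  obtain ⟨s, hs⟩ := exists_sub_pow_eq hF hc
  obtain ⟨e1, b1, he1, hp1⟩ := hH s
  obtain ⟨e2, b2, he2, hp2⟩ := hH 1
  have h := (he1.mul hF he2).mul hF ((he2.mul hF he1).inv hF)
  rw [add_comm ((1 : F) • B.e (Sum.inr o)), add_neg_cancel] at h
  have e : b1 + b2 - herm q ((1 : F) • B.e (Sum.inr o)) (s • B.e (Sum.inr o)) +
      (-(b2 + b1 - herm q (s • B.e (Sum.inr o)) ((1 : F) • B.e (Sum.inr o))) -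
        herm q (s • B.e (Sum.inr o) + (1 : F) • B.e (Sum.inr o))
          (s • B.e (Sum.inr o) + (1 : F) • B.e (Sum.inr o))) -
      herm q (-(s • B.e (Sum.inr o) + (1 : F) • B.e (Sum.inr o)))
        (s • B.e (Sum.inr o) + (1 : F) • B.e (Sum.inr o)) = c := by
    simp only [herm_neg_left, herm_smul_left, herm_smul_right hF, gr_ww, one_pow]
    linear_combination hs
  rw [e] at h
  rw [hg.unique h]
  exact P.mul_mem (P.mul_mem hp1 hp2) (P.inv_mem (P.mul_mem hp2 hp1))

section closure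

variable {P : Subgroup (SU n F q)} {ρ : SU n F q} {γ : F} (hρ : IsRot B ρ γ) (hP : ρ ∈ P)

omit hF in
theorem IsRot.pow_fu (hρ : IsRot B ρ γ) (i : ℕ) (hi : i < l) :
    (ρ ^ i) • fu B 0 = fu B (Fin.ofNat l i) ∧ (ρ ^ i) • fv B 0 = fv B (Fin.ofNat l i) := by
  induction i with
  | zero => simp [fin_zero]
  | succ i ih =>
    obtain ⟨h1, h2⟩ := ih (by omega)
    obtain ⟨e, ne⟩ := fin_step hi
    rw [pow_succ', mul_smul, mul_smul, h1, h2, (hρ.step _ ne).1, (hρ.step _ ne).2, e]
    exact ⟨rfl, rfl⟩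

omit hF in
theorem IsRot.pow_l (hρ : IsRot B ρ γ) : (ρ ^ l) • fu B 0 = γ • fv B 0 := by
  have hl : l - 1 + 1 = l := Nat.sub_add_cancel (Nat.one_le_iff_ne_zero.2 (NeZero.ne l))
  rw [show ρ ^ l = ρ ^ (l - 1 + 1) from congrArg (ρ ^ ·) hl.symm, pow_succ', mul_smul,
    (hρ.pow_fu B (l - 1) (by omega)).1, (hρ.last _ fin_last).1]

include hρ hP in
theorem top_of_radW (h32 : ¬ (n = 3 ∧ q = 2))
    (hT : ∀ (g : SU n F q) (c : F), IsQel g (fu B 0) 0 c → g ∈ P)
    (hu : ∀ i : ℕ, 1 ≤ i → i < l → ∀ t : F, t • fu B (Fin.ofNat l i) ∈ radW hF P (fu B 0) (gr_uu B 0 0))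
    (hv : ∀ i : ℕ, 1 ≤ i → i < l → ∀ t : F, t • fv B (Fin.ofNat l i) ∈ radW hF P (fu B 0) (gr_uu B 0 0))
    (hw : ∀ (a : Fin r) (t : F), t • B.e (.inr a) ∈ radW hF P (fu B 0) (gr_uu B 0 0)) : P = ⊤ := by
  refine eq_top_of_radical hF h32 (gr_uu B 0 0) (gr_vv B 0 0) (by simp [gr_uv]) (fun g w b hg hwv => ?_)
    (P.pow_mem hP l) hρ.ne (hρ.pow_l B)
  refine mem_of_radW hF (gr_uu B 0 0) hT ?_ hg
  have hs := B.e.sum_repr w
  have e : ∀ j, herm q w (B.e (partner j)) = B.e.repr w j := fun j => by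
    conv_lhs => rw [← hs]
    simp only [herm_sum_left, herm_smul_left, B.herm_e, gram_partner, mul_ite, mul_one, mul_zero,
      Finset.sum_ite_eq', Finset.mem_univ, if_true]
  rw [← hs]
  refine AddSubgroup.sum_mem _ fun j _ => ?_
  rcases j with (i | i) | a
  · by_cases hi : i = 0
    · subst hi
      rw [← e, show herm q w (B.e (partner (.inl (.inl 0)))) = 0 from hwv, zero_smul]
      exact zero_mem _
    · simpa using hu i.val (Nat.one_le_iff_ne_zero.2 fun h => hi (Fin.ext h)) i.isLt (B.e.repr w _)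
  · by_cases hi : i = 0
    · subst hi
      rw [← e, show herm q w (B.e (partner (.inl (.inr 0)))) = 0 from hg.perp, zero_smul]
      exact zero_mem _
    · simpa using hv i.val (Nat.one_le_iff_ne_zero.2 fun h => hi (Fin.ext h)) i.isLt (B.e.repr w _)
  · exact hw a _

include hρ hP in
theorem top_of_short (hl : 2 ≤ l) (hr : r = 0) (h32 : ¬ (n = 3 ∧ q = 2))
    (hx : ∀ (g : SU n F q) (t : F), IsQel g (fu B 0) (t • fv B (Fin.ofNat l 1)) 0 → g ∈ P) :
    P = ⊤ := by
  -- the elements `E i`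
  have hE : ∀ i : ℕ, i + 1 < l → ∀ t : F, ∃ g ∈ P,
      IsQel g (fu B (Fin.ofNat l i)) (t • fv B (Fin.ofNat l (i + 1))) 0 := by
    intro i
    induction i with
    | zero =>
      intro _ t
      have hne : (Fin.ofNat l 1) ≠ 0 := by rw [← fin_zero]; exact fin_ne (by omega) (by omega) one_ne_zero
      obtain ⟨g, hg⟩ := exists_isQel_zero hF (gr_uu B 0 0)
        (w := t • fv B (Fin.ofNat l 1)) (by rw [herm_smul_left, gr_vu, if_neg hne, mul_zero])
        (by rw [herm_smul_left, herm_smul_right hF, gr_vv, mul_zero, mul_zero])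
      exact ⟨g, hx g t hg, by rw [fin_zero]; exact hg⟩
    | succ i ih =>
      intro hi t
      obtain ⟨g, hgP, hg⟩ := ih (by omega) t
      have h := hg.conj hF ρ
      obtain ⟨a, a'⟩ := fin_step (show i + 1 < l by omega)
      obtain ⟨b, b'⟩ := fin_step hi
      rw [(hρ.step _ a').1, smul_comm, (hρ.step _ b').2, a, b] at h
      exact ⟨_, P.mul_mem (P.mul_mem hP hgP) (P.inv_mem hP), h⟩
  set W := radW hF P (fu B 0) (gr_uu B 0 0) with hW
  have hne0 : ∀ i, 1 ≤ i → i < l → Fin.ofNat l i ≠ 0 := fun i h1 h2 => by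
    rw [← fin_zero]; exact fin_ne h2 (by omega) (by omega)
  have hv' : ∀ i : ℕ, 1 ≤ i → i < l → ∀ t : F,
      ∃ g ∈ P, IsQel g (fu B 0) (t • fv B (Fin.ofNat l i)) 0 := by
    intro i h1
    induction i, h1 using Nat.le_induction with
    | base =>
      intro h2 t
      obtain ⟨g, hgP, hg⟩ := hE 0 (by omega) t
      rw [fin_zero] at hg
      exact ⟨g, hgP, hg⟩
    | succ i h1 ih =>
      intro h2 t
      obtain ⟨k, hkP, hk⟩ := hE i h2 1
      obtain ⟨e, heP, he⟩ := ih (by omega) t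
      have hku : k • fu B 0 = fu B 0 := by
        rw [hk.act, gr_uu, herm_smul_right hF, gr_uv, if_neg (hne0 (i + 1) (by omega) h2).symm]; simp
      have hkv : k • (t • fv B (Fin.ofNat l i)) =
          t • fv B (Fin.ofNat l i) + t • fv B (Fin.ofNat l (i + 1)) := by
        rw [hk.act, herm_smul_left, gr_vu, if_pos rfl, herm_smul_left, herm_smul_right hF, gr_vv]
        module
      have hconj := he.conj hF k
      rw [hku, hkv] at hconj
      have h := hconj.mul hF (he.inv hF)
      rw [add_neg_cancel_comm] at h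
      refine ⟨_, P.mul_mem (P.mul_mem (P.mul_mem hkP heP) (P.inv_mem hkP)) (P.inv_mem heP), ?_⟩
      convert h using 1
      simp [herm_neg_left, herm_add_right hF, herm_smul_left, herm_smul_right hF, gr_vv]
  have hv : ∀ i : ℕ, 1 ≤ i → i < l → ∀ t : F, t • fv B (Fin.ofNat l i) ∈ W := fun i h1 h2 t => by
    obtain ⟨g, hgP, hg⟩ := hv' i h1 h2 t
    exact ⟨g, 0, hg, hgP⟩
  -- the wrap element
  set last := Fin.ofNat l (l - 1) with hlast
  have hl0 : last ≠ 0 := hne0 (l - 1) (by omega) (by omega)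
  have hG : ∀ s : F, ∃ g ∈ P, IsQel g (fu B last) (s • fu B 0) 0 := by
    intro s
    obtain ⟨g, hgP, hg⟩ := hE (l - 2) (by omega) (s * γ ^ q)
    rw [show l - 2 + 1 = l - 1 by omega] at hg
    have h := hg.conj hF ρ
    obtain ⟨a, a'⟩ := fin_step (show l - 2 + 1 < l by omega)
    rw [(hρ.step _ a').1, smul_comm, (hρ.last _ fin_last).2, a, show l - 2 + 1 = l - 1 by omega,
      smul_smul, mul_inv_cancel_right₀ (mt (pow_q_eq_zero_iff hF).1 hρ.ne)] at h
    exact ⟨_, P.mul_mem (P.mul_mem hP hgP) (P.inv_mem hP), h⟩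
  have hT : ∀ (g : SU n F q) (c : F), IsQel g (fu B 0) 0 c → g ∈ P := by
    intro g c hg
    have hc := trace_of_isQel hF hg (gr_vv B 0 0) (by simp [gr_uv])
    obtain ⟨s, hs⟩ := exists_sub_pow_eq hF hc
    obtain ⟨k, hkP, hk⟩ := hG s
    obtain ⟨e, heP, he⟩ := hv' (l - 1) (by omega) (by omega) 1
    rw [one_smul, ← hlast] at he
    have hku : k • fu B 0 = fu B 0 := by
      rw [hk.act, gr_uu, herm_smul_right hF, gr_uu]; simp
    have hkv : k • fv B last = fv B last + s • fu B 0 := by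
      rw [hk.act, gr_vu, if_pos rfl, herm_smul_right hF, gr_vu, if_neg hl0]
      module
    have hconj := he.conj hF k
    rw [hku, hkv] at hconj
    have h := hconj.mul hF (he.inv hF)
    rw [add_neg_cancel_comm] at h
    have h' := h.absorb hF
    have e1 : ((0 : F) + (-0 - herm q (fv B last) (fv B last))
        - herm q (-fv B last) (fv B last + s • fu B 0)) + s - s ^ q = c := by
      simp [herm_neg_left, herm_add_right hF, herm_smul_right hF, gr_vv, gr_vu, hl0, hs]
    rw [e1] at h'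
    rw [hg.unique h']
    exact P.mul_mem (P.mul_mem (P.mul_mem hkP heP) (P.inv_mem hkP)) (P.inv_mem heP)
  -- long root elements at the last pair
  have hu : ∀ i : ℕ, 1 ≤ i → i < l → ∀ t : F, t • fu B (Fin.ofNat l i) ∈ W := by
    obtain ⟨c, hc0, hc⟩ := exists_trace_zero_ne_zero hF
    have base : ∀ t : F, t • fu B last ∈ W := by
      intro t
      have hk := (isQel_tv hF (gr_uu B 0 0) hc).conj hF (ρ ^ (l - 1))
      have hkP : ρ ^ (l - 1) * tv hF (gr_uu B 0 0) hc * (ρ ^ (l - 1))⁻¹ ∈ P :=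
        P.mul_mem (P.mul_mem (P.pow_mem hP _) (hT _ _ (isQel_tv hF _ hc))) (P.inv_mem (P.pow_mem hP _))
      rw [(hρ.pow_fu B (l - 1) (by omega)).1, ← hlast, smul_zero] at hk
      refine radW_diff hF _ hkP ?_ (hv (l - 1) (by omega) (by omega) (t / c)) ?_
      · rw [hk.act, gr_uu, herm_zero_right hF]; simp
      · rw [hk.act, herm_smul_left, gr_vu, ← hlast, if_pos rfl, herm_zero_right hF,
          show c * (t / c * 1) = t by field_simp]
        simp
    have down : ∀ d : ℕ, d + 1 < l → ∀ t : F, t • fu B (Fin.ofNat l (l - 1 - d)) ∈ W := by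
      intro d
      induction d with
      | zero => intro _ t; rw [Nat.sub_zero]; exact base t
      | succ d ih =>
        intro hd t
        have hd' : l - 1 - (d + 1) + 1 = l - 1 - d := by omega
        obtain ⟨k, hkP, hk⟩ := hE (l - 1 - (d + 1)) (by omega) 1
        rw [hd'] at hk
        have := radW_diff hF _ hkP (z := -(t • fu B (Fin.ofNat l (l - 1 - (d + 1))))) ?_
          (ih (by omega) t) ?_
        · simpa using neg_mem this
        · rw [hk.act, gr_uu, herm_smul_right hF, gr_uv,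
            if_neg (hne0 (l - 1 - d) (by omega) (by omega)).symm]; simp
        · rw [hk.act, herm_smul_left, gr_uu, herm_smul_left, herm_smul_right hF, gr_uv, if_pos rfl,
            one_pow]
          module
    intro i h1 h2 t
    have := down (l - 1 - i) (by omega) t
    rwa [show l - 1 - (l - 1 - i) = i by omega] at this
  refine top_of_radW hF B hρ hP h32 hT hu hv fun a => ?_
  subst hr
  exact a.elim0

include hρ hP in
theorem top_of_heis (hr : r = 1) (h32 : ¬ (n = 3 ∧ q = 2))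
    (hH : ∀ t : F, ∃ (g : SU n F q) (b : F),
      IsQel g (fu B 0) (t • B.e (.inr ⟨0, by omega⟩)) b ∧ g ∈ P) : P = ⊤ := by
  set o : Fin r := ⟨0, by omega⟩
  set W := radW hF P (fu B 0) (gr_uu B 0 0) with hW
  have hT : ∀ (g : SU n F q) (c : F), IsQel g (fu B 0) 0 c → g ∈ P := heis_center hF B hH
  have hHu : ∀ i : ℕ, i < l → ∃ (g : SU n F q) (b : F),
      IsQel g (fu B (Fin.ofNat l i)) (B.e (.inr o)) b ∧ g ∈ P := by
    intro i hi
    induction i with
    | zero => obtain ⟨g, b, hg, hgP⟩ := hH 1; exact ⟨g, b, by simpa [fin_zero] using hg, hgP⟩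
    | succ i ih =>
      obtain ⟨g, b, hg, hgP⟩ := ih (by omega)
      obtain ⟨e, ne⟩ := fin_step hi
      have h := hg.conj hF ρ
      rw [(hρ.step _ ne).1, hρ.fix, e] at h
      exact ⟨_, b, h, P.mul_mem (P.mul_mem hP hgP) (P.inv_mem hP)⟩
  have hHv : ∀ i : ℕ, i < l → ∃ (g : SU n F q) (b a : F), a ≠ 0 ∧
      IsQel g (a • fv B (Fin.ofNat l i)) (B.e (.inr o)) b ∧ g ∈ P := by
    intro i hi
    induction i with
    | zero =>
      obtain ⟨g, b, hg, hgP⟩ := hHu (l - 1) (by omega)
      have h := hg.conj hF ρ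
      rw [(hρ.last _ fin_last).1, hρ.fix] at h
      exact ⟨_, b, γ, hρ.ne, by rw [fin_zero]; exact h, P.mul_mem (P.mul_mem hP hgP) (P.inv_mem hP)⟩
    | succ i ih =>
      obtain ⟨g, b, a, ha, hg, hgP⟩ := ih (by omega)
      obtain ⟨e, ne⟩ := fin_step hi
      have h := hg.conj hF ρ
      rw [smul_comm, (hρ.step _ ne).2, hρ.fix, e] at h
      exact ⟨_, b, a, ha, h, P.mul_mem (P.mul_mem hP hgP) (P.inv_mem hP)⟩
  have hw : ∀ t : F, t • B.e (.inr o) ∈ W := fun t => hH t
  have hne0 : ∀ i, 1 ≤ i → i < l → Fin.ofNat l i ≠ 0 := fun i h1 h2 => by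
    rw [← fin_zero]; exact fin_ne h2 (by omega) (by omega)
  refine top_of_radW hF B hρ hP h32 hT (fun i h1 h2 t => ?_) (fun i h1 h2 t => ?_) fun a t => ?_
  · obtain ⟨g, b, hg, hgP⟩ := hHu i h2
    have := radW_diff hF _ hgP (z := -(t • fu B (Fin.ofNat l i))) ?_ (hw t) ?_
    · simpa using neg_mem this
    · rw [hg.act, gr_uu, gr_uw]; simp
    · rw [hg.act, herm_smul_left, gr_wu, herm_smul_left, gr_ww]
      module
  · obtain ⟨g, b, a, ha, hg, hgP⟩ := hHv i h2
    have := radW_diff hF _ hgP (z := -((t / a * a) • fv B (Fin.ofNat l i))) ?_ (hw (t / a)) ?_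
    · rw [div_mul_cancel₀ _ ha] at this
      simpa using neg_mem this
    · rw [hg.act, herm_smul_right hF, gr_uv, if_neg (hne0 i h1 h2).symm, gr_uw]; simp
    · rw [hg.act, herm_smul_left, herm_smul_right hF, gr_wv, herm_smul_left, gr_ww]
      module
  · have : a = o := Fin.ext (by have := a.isLt; simp only [o]; omega)
    rw [this]; exact hw t

end closure

/-- diagonal elements in the frame -/
def IsTor (g : SU n F q) (α : Idx l r → F) : Prop := ∀ j, g • B.e j = α j • B.e j

omit hF [NeZero l] in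
theorem IsTor.ne {g : SU n F q} {α : Idx l r → F} (h : IsTor B g α) (j : Idx l r) : α j ≠ 0 := by
  intro e
  have := h j
  rw [e, zero_smul, smul_eq_zero_iff_eq] at this
  exact B.e.ne_zero j this

omit [NeZero l] in
theorem IsTor.commute {g g' : SU n F q} {α α' : Idx l r → F} (h : IsTor B g α)
    (h' : IsTor B g' α') : Commute g g' :=
  eq_of_frame hF B fun j => by
    rw [mul_smul, mul_smul, h' j, h j, smul_comm g, smul_comm g', h j, h' j, smul_smul, smul_smul,
      mul_comm]

omit [NeZero l] in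
theorem IsTor.conj_qel {g a : SU n F q} {α : Idx l r → F} (h : IsTor B g α) {i j : Idx l r} {t b : F}
    (ha : IsQel a (B.e i) (t • B.e j) b) :
    IsQel (g * a * g⁻¹) (B.e i) (((α i ^ q * α j) * t) • B.e j) (α i ^ (q + 1) * b) := by
  have := ha.conj hF g
  rw [h i, smul_comm, h j] at this
  have := this.smul_left hF (h.ne B i)
  convert this using 1
  rw [smul_smul, smul_smul]
  congr 1
  ring

omit hF [NeZero l] in
theorem IsTor.inv {g : SU n F q} {α : Idx l r → F} (h : IsTor B g α) :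
    IsTor B g⁻¹ fun j => (α j)⁻¹ := fun j => by
  rw [inv_smul_eq_iff, smul_comm, h j, smul_smul, inv_mul_cancel₀ (h.ne B j), one_smul]

theorem big_order {k : F} (hord : orderOf k = q ^ 2 - 1) {e m : ℕ} (hm : m ≤ q) (hm0 : 0 < m)
    (key : ∀ o : ℕ, q ^ 2 - 1 ∣ e * o → q ^ 2 - 1 ∣ m * o) : q - 1 < orderOf (k ^ e) := by
  have hq := two_le_q hF
  have hsq : q ^ 2 - 1 = (q - 1) * (q + 1) := by
    obtain ⟨j, rfl⟩ : ∃ j, q = j + 1 := ⟨q - 1, by omega⟩
    simp only [Nat.add_sub_cancel]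
    have : (j + 1) ^ 2 = j * (j + 1 + 1) + 1 := by ring
    omega
  have hk : k ≠ 0 := by
    rintro rfl
    rw [orderOf_zero, hsq] at hord
    rcases Nat.mul_eq_zero.1 hord.symm with h | h <;> omega
  set o := orderOf (k ^ e)
  have ho : 0 < o := orderOf_pos_iff.2 (isOfFinOrder_iff_pow_eq_one.2
    ⟨Fintype.card F - 1, Nat.sub_pos_of_lt Fintype.one_lt_card, FiniteField.pow_card_sub_one_eq_one _ (pow_ne_zero e hk)⟩)
  have h1 : k ^ (e * o) = 1 := by rw [pow_mul]; exact pow_orderOf_eq_one _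
  have h2 := Nat.le_of_dvd (Nat.mul_pos hm0 ho) (key o (hord ▸ orderOf_dvd_of_pow_eq_one h1))
  by_contra hle
  push_neg at hle
  have h3 : m * o ≤ q * (q - 1) := Nat.mul_le_mul hm hle
  rw [hsq, mul_comm (q - 1)] at h2
  have h4 : (q + 1) * (q - 1) = q * (q - 1) + (q - 1) := by ring
  omega

include B in
theorem exists_two (hl : 1 ≤ l) (hr : r ≤ 1) (hn : n = 2 * l + r) (h3 : 3 ≤ n)
    (h32 : ¬ (n = 3 ∧ q = 2)) :
    ∃ a b : SU n F q, Subgroup.closure ({a, b} : Set (SU n F q)) = ⊤ := by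
  classical
  obtain ⟨γ, hγ0, hγ⟩ := exists_trace_zero_ne_zero hF
  obtain ⟨ρ, r1, r2, r3⟩ := exists_rot hF B hγ0 hγ
  have hρ : IsRot B ρ γ := ⟨r1, r2, r3, hγ0⟩
  obtain ⟨k, hk⟩ := IsCyclic.exists_generator (α := Fˣ)
  have hk0 : (k : F) ≠ 0 := k.ne_zero
  have hq := two_le_q hF
  have hord : orderOf (k : F) = q ^ 2 - 1 := by
    rw [orderOf_units, orderOf_eq_card_of_forall_mem_zpowers hk, Nat.card_units,
      Nat.card_eq_fintype_card, hF]
  have hq4 : 2 * q ≤ q ^ 2 := by rw [sq]; exact Nat.mul_le_mul_right q hq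
  have hne : ∀ a b : ℕ, a < b → b < q ^ 2 - 1 → (k : F) ^ a ≠ (k : F) ^ b := by
    intro a b hab hb e
    exact hab.ne (pow_injOn_Iio_orderOf (by rw [Set.mem_Iio, hord]; omega)
      (by rw [Set.mem_Iio, hord]; omega) e)
  have hk1 : (k : F) ≠ 1 := fun e => hne 0 1 one_pos (by omega) (by rw [pow_zero, pow_one, e])
  have hkq2 : (k : F) ^ (q ^ 2) = k := by rw [← hF]; exact FiniteField.pow_card _
  have hlast : Fin.ofNat l (l - 1) + 1 = (0 : Fin l) := fin_last
  set last : Fin l := Fin.ofNat l (l - 1)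
  -- the torus element moved by `ρ`
  have hrot : ∀ (g : SU n F q) (α : Idx l r → F), IsTor B g α → ∃ α' : Idx l r → F,
      IsTor B (ρ * g * ρ⁻¹) α' ∧ α' (.inl (.inl 0)) = α (.inl (.inr last)) ∧
      (∀ a, α' (.inr a) = α (.inr a)) ∧
      ∀ i : Fin l, i + 1 ≠ 0 → α' (.inl (.inr (i + 1))) = α (.inl (.inr i)) := by
    intro g α hg
    refine ⟨fun j => match j with
      | .inl (.inl i) => if i = 0 then α (.inl (.inr last)) else α (.inl (.inl (i - 1)))
      | .inl (.inr i) => if i = 0 then α (.inl (.inl last)) else α (.inl (.inr (i - 1)))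
      | .inr a => α (.inr a), ?_, by simp, fun a => rfl, fun i hi => by simp [hi]⟩
    have e : ∀ (z : Fin n → F) (c : F), g • z = c • z → (ρ * g * ρ⁻¹) • (ρ • z) = c • (ρ • z) := by
      intro z c hz
      rw [mul_smul, mul_smul, inv_smul_smul, hz, smul_comm]
    intro j
    rcases j with (i | i) | a
    · by_cases hi : i = 0
      · subst hi
        have h := e _ _ (hg (.inl (.inr last)))
        rw [show ρ • B.e (.inl (.inr last)) = (γ ^ q)⁻¹ • fu B 0 from (hρ.last _ hlast).2,
          smul_comm, smul_comm (α _)] at h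
        simpa using smul_right_injective _ (inv_ne_zero (mt (pow_q_eq_zero_iff hF).1 hγ0)) h
      · have h := e _ _ (hg (.inl (.inl (i - 1))))
        rw [show ρ • B.e (.inl (.inl (i - 1))) = fu B (i - 1 + 1) from
          (hρ.step _ (by simpa using hi)).1, sub_add_cancel] at h
        simpa [hi] using h
    · by_cases hi : i = 0
      · subst hi
        have h := e _ _ (hg (.inl (.inl last)))
        rw [show ρ • B.e (.inl (.inl last)) = γ • fv B 0 from (hρ.last _ hlast).1,
          smul_comm, smul_comm (α _)] at h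
        simpa using smul_right_injective _ hγ0 h
      · have h := e _ _ (hg (.inl (.inr (i - 1))))
        rw [show ρ • B.e (.inl (.inr (i - 1))) = fv B (i - 1 + 1) from
          (hρ.step _ (by simpa using hi)).2, sub_add_cancel] at h
        simpa [hi] using h
    · have h := e _ _ (hg (.inr a))
      rw [hρ.fix] at h
      exact h
  have htor : ∀ (μ : Fin l → Fˣ) (ν : Fˣ), (r = 0 → ν = 1) →
      (ν : F) = ∏ i, (μ i : F) ^ q / μ i → ∃ g : SU n F q, ∃ α : Idx l r → F, IsTor B g α ∧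
        (∀ i, α (.inl (.inl i)) = μ i) ∧ (∀ i, α (.inl (.inr i)) = ((μ i : F) ^ q)⁻¹) ∧
        ∀ a, α (.inr a) = ν := by
    intro μ ν h1 h2
    obtain ⟨g, g1, g2⟩ := exists_tor hF B μ ν h1 hr h2
    refine ⟨g, fun j => match j with
      | .inl (.inl i) => μ i | .inl (.inr i) => ((μ i : F) ^ q)⁻¹ | .inr _ => ν,
      fun j => ?_, fun i => rfl, fun i => rfl, fun a => rfl⟩
    rcases j with (i | i) | a
    exacts [(g1 i).1, (g1 i).2, g2 a]
  -- finishing
  have finish : ∀ (j : Idx l r) (X : F → SU n F q → Prop),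
      (∀ s t a b, X s a → X t b → X (s + t) (a * b)) → (∀ s a, X s a → X (-s) a⁻¹) →
      (∀ (g : SU n F q) (α : Idx l r → F), IsTor B g α → ∀ t a, X t a →
        X (α (.inl (.inl 0)) ^ q * α j * t) (g * a * g⁻¹)) →
      ∀ (y : SU n F q), X 1 y → ∀ (h : SU n F q) (α : Idx l r → F), IsTor B h α →
      ∀ α' : Idx l r → F, IsTor B (ρ * h * ρ⁻¹) α' →
      α (.inl (.inl 0)) ^ q * α j ≠ 1 → α' (.inl (.inl 0)) ^ q * α' j ≠ 1 →
      Subring.closure ({α (.inl (.inl 0)) ^ q * α j} : Set F) = ⊤ →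
      ∀ t, ∃ a, X t a ∧ a ∈ Subgroup.closure ({h, y * ρ} : Set (SU n F q)) := by
    intro j X hmul hinv hconj y hy h α hα α' hα' hc hc' hgen
    refine fibre_step (X := X) hmul hinv (h' := ρ * h * ρ⁻¹) rfl (hα.commute hF B hα')
      (fun t a ha => hconj h α hα t a ha) (fun t a ha => ?_)
      (fun t a ha => hconj _ α' hα' t a ha) hc hc'
      (mul_ne_zero (pow_ne_zero _ (hα'.ne B _)) (hα'.ne B _)) hgen hy
      (Subgroup.subset_closure (by simp)) (Subgroup.subset_closure (by simp))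
    have := hconj _ _ (hα'.inv B) t a ha
    rwa [inv_inv, inv_pow, ← mul_inv] at this
  obtain rfl | rfl : r = 0 ∨ r = 1 := by omega
  · -- even dimension
    have hl2 : 2 ≤ l := by omega
    set o := Fin.ofNat l 1 with ho
    have h01 : (0 : Fin l) ≠ o := by rw [ho, ← fin_zero]; exact fin_ne (by omega) (by omega) (by omega)
    let μ : Fin l → Fˣ := fun i => if i = 0 then k else if i = o then k⁻¹ else 1
    obtain ⟨h, α, hα, au, av, -⟩ := htor μ 1 (fun _ => rfl) (by
      rw [Fintype.prod_eq_mul (0 : Fin l) o h01 (fun i hi => by simp [μ, hi.1, hi.2])]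
      simp [μ, h01.symm, inv_pow]
      field_simp)
    obtain ⟨α', hα', au', -, av'⟩ := hrot h α hα
    have eo : (0 : Fin l) + 1 = o := by
      rw [ho, ← fin_zero]; exact (fin_step (by omega)).1
    have av1 : α' (.inl (.inr o)) = ((k : F) ^ q)⁻¹ := by
      rw [← eo, av' 0 (by rw [eo]; exact h01.symm), av]; simp [μ]
    obtain ⟨y, hy⟩ := exists_isQel_zero hF (gr_uu B 0 0) (w := (1 : F) • fv B o)
      (by rw [herm_smul_left, gr_vu, if_neg h01.symm, mul_zero])
      (by rw [herm_smul_left, herm_smul_right hF, gr_vv, mul_zero, mul_zero])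
    have hc0 : α (.inl (.inl 0)) ^ q * α (.inl (.inr o)) = (k : F) ^ (2 * q) := by
      rw [au, av]; simp [μ, h01.symm, two_mul, pow_add]
    refine ⟨h, y * ρ, ?_⟩
    set P := Subgroup.closure ({h, y * ρ} : Set (SU n F q))
    have hX := finish (.inl (.inr o)) (fun t g => IsQel g (fu B 0) (t • fv B o) 0)
      (fun s t a b ha hb => by
        have := ha.mul hF hb
        rw [← add_smul] at this
        simpa [herm_smul_left, herm_smul_right hF, gr_vv] using this)
      (fun s a ha => by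
        have := ha.inv hF
        rw [← neg_smul] at this
        simpa [herm_smul_left, herm_smul_right hF, gr_vv] using this)
      (fun g β hβ t a ha => by simpa using hβ.conj_qel hF B ha)
      y hy h α hα α' hα' (by
        rw [hc0]
        intro e
        rcases Nat.eq_or_lt_of_le hq with rfl | hq3
        · exact hne 0 1 one_pos (by norm_num) (by
            rw [pow_zero, pow_one, ← e, show (2 * 2 : ℕ) = 3 + 1 by rfl, pow_succ,
              show (k : F) ^ 3 = 1 by
                rw [show 3 = orderOf (k : F) by rw [hord]; rfl]; exact pow_orderOf_eq_one _,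
              one_mul])
        · have : 3 * q ≤ q ^ 2 := by rw [sq]; exact Nat.mul_le_mul_right q hq3
          exact hne 0 (2 * q) (by omega) (by omega) (by rw [pow_zero, e]))
      (by
        rw [av1, au', av]
        have hkq : (k : F) ^ q ≠ 0 := pow_ne_zero _ hk0
        intro e
        by_cases h2 : last = o
        · simp [μ, h2, h01.symm, inv_pow, ← pow_mul] at e
          rw [← sq, hkq2, mul_inv_eq_one₀ hkq] at e
          exact hne 1 q (by omega) (by omega) (by rw [pow_one, ← e])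
        · have h0 : last ≠ 0 := by
            show Fin.ofNat l (l - 1) ≠ 0
            rw [← fin_zero]; exact fin_ne (by omega) (by omega) (by omega)
          simp [μ, h0, h2] at e
          exact hne 0 q (by omega) (by omega) (by rw [pow_zero, e]))
      (by
        rw [hc0]
        refine subringClosure_of_big hF (pow_ne_zero _ hk0) (big_order hF hord (m := 2) hq two_pos ?_)
        intro x hx
        have h1 : q ^ 2 - 1 ∣ q * (2 * q * x) := hx.trans (Dvd.intro_left q rfl)
        have h2 : q * (2 * q * x) = 2 * x * (q ^ 2 - 1) + 2 * x := by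
          rw [Nat.mul_sub, mul_one, Nat.sub_add_cancel]
          · ring
          · exact Nat.le_mul_of_pos_right _ (by positivity)
        rw [h2] at h1
        exact (Nat.dvd_add_right (Dvd.intro_left _ rfl)).1 h1)
    have hρP : ρ ∈ P := by
      obtain ⟨a, ha, haP⟩ := hX 1
      have := P.mul_mem (P.inv_mem haP) (show y * ρ ∈ P from Subgroup.subset_closure (by simp))
      rwa [ha.unique hy, inv_mul_cancel_left] at this
    refine top_of_short hF B hρ hρP hl2 rfl h32 fun g t hg => ?_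
    obtain ⟨a, ha, haP⟩ := hX t
    rwa [hg.unique ha]
  · -- odd dimension
    set o : Fin 1 := ⟨0, Nat.one_pos⟩
    have hl2 : q = 2 → 2 ≤ l := fun hq2 => by
      by_contra hlt; exact h32 ⟨by omega, hq2⟩
    set p := Fin.ofNat l 1 with hp
    let μ : Fin l → Fˣ := fun i => if i = 0 then k else if i = p ∧ q = 2 then k else 1
    let ν : Fˣ := ∏ i, μ i ^ q / μ i
    obtain ⟨h, α, hα, au, av, aw⟩ := htor μ ν (fun e => absurd e one_ne_zero) (by simp [ν])
    obtain ⟨α', hα', au', aw', -⟩ := hrot h α hα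
    have hw0 : herm q ((1 : F) • B.e (.inr o)) (fu B 0) = 0 := by
      rw [herm_smul_left, gr_wu, mul_zero]
    obtain ⟨y, b0, hy⟩ := exists_isQel hF (gr_uu B 0 0) hw0
    -- the values of the two characters
    obtain ⟨c1, c2, c3⟩ : α (.inl (.inl 0)) ^ q * α (.inr o) ≠ 1 ∧
        α' (.inl (.inl 0)) ^ q * α' (.inr o) ≠ 1 ∧
        Subring.closure ({α (.inl (.inl 0)) ^ q * α (.inr o)} : Set F) = ⊤ := by
      rw [au', aw', av, au, aw]
      have h00 : (μ 0 : F) = k := by simp [μ]
      by_cases hq2 : q = 2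
      · have hk3 : (k : F) ^ 3 = 1 := by
          rw [show 3 = orderOf (k : F) by rw [hord, hq2]; rfl]; exact pow_orderOf_eq_one _
        have hk2 : (k : F) ^ 2 ≠ 1 := fun e => hne 0 2 two_pos (by rw [hq2]; norm_num) (by rw [pow_zero, e])
        have h0p : (0 : Fin l) ≠ p := by
          rw [hp, ← fin_zero]; exact fin_ne (by omega) (by have := hl2 hq2; omega) (by omega)
        have hν : (ν : F) = (k : F) ^ 2 := by
          simp only [ν, Units.coe_prod, Units.val_div_eq_div_val, Units.val_pow_eq_pow_val]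
          rw [Fintype.prod_eq_mul (0 : Fin l) p h0p (fun i hi => by simp [μ, hi.1, hi.2])]
          simp [μ, hq2, h0p.symm]
          field_simp
        have e4 : (k : F) ^ q * (k : F) ^ 2 = k := by
          rw [hq2, ← pow_add, show (2 + 2 : ℕ) = 3 + 1 by rfl, pow_succ, hk3, one_mul]
        rw [h00, hν, e4]
        refine ⟨hk1, ?_, subringClosure_gen hk⟩
        by_cases hlp : last = p
        · have : (μ last : F) = k := by simp [μ, hlp, hq2, h0p.symm]
          rw [this, hq2]
          intro e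
          apply hk1
          have : ((k : F) ^ 2)⁻¹ ^ 2 * (k : F) ^ 2 = ((k : F) ^ 2)⁻¹ := by field_simp
          rw [this, inv_eq_one] at e
          exact absurd e hk2
        · have h0 : last ≠ 0 := by
            show Fin.ofNat l (l - 1) ≠ 0
            rw [← fin_zero]
            exact fin_ne (by omega) (by omega) (by have := hl2 hq2; omega)
          have : (μ last : F) = 1 := by simp [μ, hlp, h0]
          rw [this, one_pow, inv_one, one_pow, one_mul]
          exact hk2
      · have hν : (ν : F) = (k : F) ^ (q - 1) := by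
          simp only [ν, Units.coe_prod, Units.val_div_eq_div_val, Units.val_pow_eq_pow_val]
          rw [Fintype.prod_eq_single (0 : Fin l) (fun i hi => by simp [μ, hi, hq2]), h00,
            pow_sub₀ _ hk0 (show 1 ≤ q by omega), pow_one, div_eq_mul_inv]
        have e1 : (k : F) ^ q * (k : F) ^ (q - 1) = (k : F) ^ (2 * q - 1) := by
          rw [← pow_add]; congr 1; omega
        have hq3 : 3 * q ≤ q ^ 2 := by rw [sq]; exact Nat.mul_le_mul_right q (by omega)
        rw [h00, hν, e1]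
        refine ⟨fun e => hne 0 (2 * q - 1) (by omega) (by omega) (by rw [pow_zero, e]), ?_,
          subringClosure_of_big hF (pow_ne_zero _ hk0) (big_order hF hord (m := 3) (by omega) three_pos ?_)⟩
        · by_cases h0 : last = 0
          · rw [h0, h00, inv_pow, ← pow_mul, ← sq, hkq2,
              show (k : F) ^ (q - 1) = (k : F) ^ (q - 2) * k by rw [← pow_succ]; congr 1; omega,
              mul_comm, mul_assoc, mul_inv_cancel₀ hk0, mul_one]
            exact fun e => hne 0 (q - 2) (by omega) (by omega) (by rw [pow_zero, e])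
          · have : (μ last : F) = 1 := by simp [μ, h0, hq2]
            rw [this, one_pow, inv_one, one_pow, one_mul]
            exact fun e => hne 0 (q - 1) (by omega) (by omega) (by rw [pow_zero, e])
        · intro x hx
          have h1 : q ^ 2 - 1 ∣ (2 * q + 1) * ((2 * q - 1) * x) := hx.trans (Dvd.intro_left _ rfl)
          have h2 : (2 * q + 1) * ((2 * q - 1) * x) = 4 * x * (q ^ 2 - 1) + 3 * x := by
            obtain ⟨j, rfl⟩ : ∃ j, q = j + 1 := ⟨q - 1, by omega⟩
            rw [show 2 * (j + 1) - 1 = 2 * j + 1 by omega,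
              show (j + 1) ^ 2 - 1 = j * j + 2 * j by rw [sq]; ring_nf; omega]
            ring
          rw [h2] at h1
          exact (Nat.dvd_add_right (Dvd.intro_left _ rfl)).1 h1
    refine ⟨h, y * ρ, ?_⟩
    set P := Subgroup.closure ({h, y * ρ} : Set (SU n F q))
    have hX := finish (.inr o) (fun t g => ∃ b, IsQel g (fu B 0) (t • B.e (.inr o)) b)
      (fun s t a b ⟨_, ha⟩ ⟨_, hb⟩ => ⟨_, by rw [add_smul]; exact ha.mul hF hb⟩)
      (fun s a ⟨_, ha⟩ => ⟨_, by rw [neg_smul]; exact ha.inv hF⟩)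
      (fun g β hβ t a ⟨_, ha⟩ => ⟨_, hβ.conj_qel hF B ha⟩)
      y ⟨b0, hy⟩ h α hα α' hα' c1 c2 c3
    have hH : ∀ t : F, ∃ (g : SU n F q) (b : F), IsQel g (fu B 0) (t • B.e (.inr o)) b ∧ g ∈ P :=
      fun t => by obtain ⟨g, ⟨b, hb⟩, hg⟩ := hX t; exact ⟨g, b, hb, hg⟩
    -- the centre of the root group
    have hT : ∀ (g : SU n F q) (c : F), IsQel g (fu B 0) 0 c → g ∈ P := heis_center hF B hH
    have hyP : y ∈ P := mem_of_radW hF (gr_uu B 0 0) hT (hH 1) hy
    have hρP : ρ ∈ P := by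
      have := P.mul_mem (P.inv_mem hyP) (show y * ρ ∈ P from Subgroup.subset_closure (by simp))
      rwa [inv_mul_cancel_left] at this
    exact top_of_heis hF B hρ hρP rfl h32 hH

end Cfsg.Agent.ChevGen.SUGen
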