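/-
Monomial and diagonal elements of the Eichler group of a sum of hyperbolic planes.
-/
import Cfsg.Agent.Lib.UnitaryOrthogonal.Standard
import Cfsg.Agent.Lib.UnitaryOrthogonal.Omega

set_option autoImplicit false

namespace Cfsg.Agent.ChevGen.OrthGen

open QuadraticMap Cfsg.Agent.UnitaryOrthogonal

variable {F W : Type*} [Field F] [AddCommGroup W] [Module F W] {Q : QuadraticForm F W} {l : ℕ}

/-- the space of `l` hyperbolic planes and `W` -/
abbrev Sp (F W : Type*) (l : ℕ) : Type _ := ((Fin l → F) × (Fin l → F)) × W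

/-- the singular vector `e_i` -/
def eI (i : Fin l) : Sp F W l := ((Pi.single i 1, 0), 0)

/-- the singular vector `f_i` -/
def fI (i : Fin l) : Sp F W l := ((0, Pi.single i 1), 0)

/-- a vector of `W` -/
def wI (w : W) : Sp F W l := ((0, 0), w)

theorem wI_add (w w' : W) : (wI (w + w') : Sp F W l) = wI w + wI w' := by simp [wI]

theorem wI_smul (c : F) (w : W) : (wI (c • w) : Sp F W l) = c • wI w := by simp [wI]

theorem wI_zero : (wI 0 : Sp F W l) = 0 := by simp [wI]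

theorem wI_neg (w : W) : (wI (-w) : Sp F W l) = -wI w := by simp [wI]

theorem polar_hypSum (u v : Sp F W l) : polar (hypSum l Q) u v =
    ∑ i, (u.1.1 i * v.1.2 i + v.1.1 i * u.1.2 i) + polar Q u.2 v.2 := by
  simp only [polar, hypSum_apply, Prod.fst_add, Prod.snd_add, Pi.add_apply, add_mul, mul_add,
    Finset.sum_add_distrib]
  ring

theorem polar_eI (i : Fin l) (v : Sp F W l) : polar (hypSum l Q) (eI i) v = v.1.2 i := by
  simp [polar_hypSum, eI, Pi.single_apply]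

theorem polar_fI (i : Fin l) (v : Sp F W l) : polar (hypSum l Q) (fI i) v = v.1.1 i := by
  simp [polar_hypSum, fI, Pi.single_apply]

theorem polar_wI (w : W) (v : Sp F W l) : polar (hypSum l Q) (wI w) v = polar Q w v.2 := by
  simp [polar_hypSum, wI]

theorem form_eI (i : Fin l) : hypSum l Q (eI i) = 0 := by simp [eI]

theorem form_fI (i : Fin l) : hypSum l Q (fI i) = 0 := by simp [fI]

theorem form_wI (w : W) : hypSum l Q (wI w) = Q w := by simp [wI]

theorem decomp (v : Sp F W l) :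
    v = ∑ i, v.1.1 i • eI i + ∑ i, v.1.2 i • fI i + wI v.2 := by
  refine Prod.ext (Prod.ext (funext fun j => ?_) (funext fun j => ?_)) ?_
  · simp [eI, fI, wI, Prod.fst_sum, Prod.snd_sum, Finset.sum_apply, Pi.single_apply]
  · simp [eI, fI, wI, Prod.fst_sum, Prod.snd_sum, Finset.sum_apply, Pi.single_apply]
  · simp [eI, fI, wI, Prod.snd_sum]

theorem ext_std {g g' : orth (hypSum l Q)} (he : ∀ i, g.1 (eI i) = g'.1 (eI i))
    (hf : ∀ i, g.1 (fI i) = g'.1 (fI i)) (hw : ∀ w, g.1 (wI w) = g'.1 (wI w)) : g = g' := by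
  refine orth_ext fun v => ?_
  rw [decomp v]
  simp only [map_add, map_sum, map_smul, he, hf, hw]

/-! ### the elements of a long root and of the short root at `z` -/

/-- `n_{ε_i - ε_j}(t)` -/
noncomputable def nEl (Q : QuadraticForm F W) (i j : Fin l) (t : F) : orth (hypSum l Q) :=
  eich (hypSum l Q) (eI i) (t • fI j) * eich (hypSum l Q) (fI i) (t⁻¹ • eI j) *
    eich (hypSum l Q) (eI i) (t • fI j)

theorem nEl_mem (i j : Fin l) (t : F) : nEl Q i j t ∈ eichGroup (hypSum l Q) :=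
  mul_mem (mul_mem (eich_mem_eichGroup _ _) (eich_mem_eichGroup _ _)) (eich_mem_eichGroup _ _)

section

variable {i j : Fin l} (hij : i ≠ j)

include hij

theorem eichA (t : F) (x : Sp F W l) : (eich (hypSum l Q) (eI i) (t • fI j)).1 x =
    x + x.1.2 i • t • fI j - (t * x.1.1 j) • eI i := by
  rw [eich_apply (form_eI i) (by rw [polar_smul_right, polar_eI]; simp [fI, hij])]
  simp only [polar_eI, polar_smul_left, polar_fI, form_smul, form_fI]
  simp

theorem eichB (t : F) (x : Sp F W l) : (eich (hypSum l Q) (fI i) (t • eI j)).1 x =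
    x + x.1.1 i • t • eI j - (t * x.1.2 j) • fI i := by
  rw [eich_apply (form_fI i) (by rw [polar_smul_right, polar_fI]; simp [eI, hij])]
  simp only [polar_fI, polar_smul_left, polar_eI, form_smul, form_eI]
  simp

theorem nEl_apply {t : F} (ht : t ≠ 0) :
    (nEl Q i j t).1 (eI i) = t⁻¹ • eI j ∧ (nEl Q i j t).1 (eI j) = -t • eI i ∧
    (nEl Q i j t).1 (fI i) = t • fI j ∧ (nEl Q i j t).1 (fI j) = -t⁻¹ • fI i := by
  have h1 : t * t⁻¹ = 1 := mul_inv_cancel₀ ht
  refine ⟨?_, ?_, ?_, ?_⟩ <;>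
    simp only [nEl, coe_mul_apply, eichA hij, eichB hij] <;>
    simp [eI, fI, Prod.ext_iff, funext_iff, Pi.single_apply, hij, hij.symm] <;>
    refine fun k => ?_ <;> by_cases hk : k = i <;> by_cases hk' : k = j <;>
    simp_all

theorem nEl_fix {t : F} {k : Fin l} (hki : k ≠ i) (hkj : k ≠ j) :
    (nEl Q i j t).1 (eI k) = eI k ∧ (nEl Q i j t).1 (fI k) = fI k := by
  constructor <;> simp only [nEl, coe_mul_apply, eichA hij, eichB hij] <;>
    simp [eI, fI, hki.symm, hkj.symm]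

theorem nEl_wI (t : F) (w : W) : (nEl Q i j t).1 (wI w) = wI w := by
  simp only [nEl, coe_mul_apply, eichA hij, eichB hij]
  simp [wI]

end

/-- the element of the short root `ε_i` at `z` -/
noncomputable def sEl (Q : QuadraticForm F W) (i : Fin l) (z : W) : orth (hypSum l Q) :=
  eich (hypSum l Q) (eI i) (wI z) * eich (hypSum l Q) (fI i) ((Q z)⁻¹ • wI z) *
    eich (hypSum l Q) (eI i) (wI z)

theorem sEl_mem (i : Fin l) (z : W) : sEl Q i z ∈ eichGroup (hypSum l Q) :=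
  mul_mem (mul_mem (eich_mem_eichGroup _ _) (eich_mem_eichGroup _ _)) (eich_mem_eichGroup _ _)

section

variable {i : Fin l} {z : W}

theorem eichS (x : Sp F W l) : (eich (hypSum l Q) (eI i) (wI z)).1 x =
    x + x.1.2 i • wI z - polar Q z x.2 • eI i - (Q z * x.1.2 i) • eI i := by
  rw [eich_apply (form_eI i) (by rw [polar_eI]; simp [wI])]
  simp only [polar_eI, polar_wI, form_wI]

theorem eichS' (c : F) (x : Sp F W l) : (eich (hypSum l Q) (fI i) (c • wI z)).1 x =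
    x + x.1.1 i • c • wI z - (c * polar Q z x.2) • fI i - (c * c * Q z * x.1.1 i) • fI i := by
  rw [eich_apply (form_fI i) (by rw [polar_smul_right, polar_fI]; simp [wI])]
  simp only [polar_fI, polar_smul_left, polar_wI, form_smul, form_wI, smul_eq_mul]

theorem sEl_apply (hz : Q z ≠ 0) :
    (sEl Q i z).1 (eI i) = -(Q z)⁻¹ • fI i ∧ (sEl Q i z).1 (fI i) = -(Q z) • eI i := by
  have c1 : (eI i : Sp F W l).1.1 i = 1 ∧ (eI i : Sp F W l).1.2 i = 0 ∧ (eI i : Sp F W l).2 = 0 ∧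
      (fI i : Sp F W l).1.1 i = 0 ∧ (fI i : Sp F W l).1.2 i = 1 ∧ (fI i : Sp F W l).2 = 0 ∧
      (wI z : Sp F W l).1.1 i = 0 ∧ (wI z : Sp F W l).1.2 i = 0 ∧ (wI z : Sp F W l).2 = z := by
    simp [eI, fI, wI]
  obtain ⟨c1, c2, c3, c4, c5, c6, c7, c8, c9⟩ := c1
  have hp : polar Q z z = 2 * Q z := polar_self_eq z
  refine ⟨?_, ?_⟩ <;> simp only [sEl, coe_mul_apply, eichS, eichS', c1, c2, c3, c4, c5, c6, c7, c8,
      c9, Prod.fst_add, Prod.snd_add, Prod.fst_sub, Prod.snd_sub, Prod.smul_fst, Prod.smul_snd,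
      Pi.add_apply, Pi.sub_apply, Pi.smul_apply, smul_eq_mul, polar_add_right, polar_sub_right,
      polar_smul_right, polar_zero_right, hp] <;>
    match_scalars <;> field_simp <;> ring

theorem sEl_fix {k : Fin l} (hk : k ≠ i) :
    (sEl Q i z).1 (eI k) = eI k ∧ (sEl Q i z).1 (fI k) = fI k := by
  constructor <;> simp only [sEl, coe_mul_apply, eichS, eichS'] <;> simp [eI, fI, hk.symm]

theorem sEl_wI (hz : Q z ≠ 0) (w : W) : (sEl Q i z).1 (wI w) = wI ((rf Q z).1 w) := by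
  have c1 : (eI i : Sp F W l).1.1 i = 1 ∧ (eI i : Sp F W l).1.2 i = 0 ∧ (eI i : Sp F W l).2 = 0 ∧
      (fI i : Sp F W l).1.1 i = 0 ∧ (fI i : Sp F W l).1.2 i = 1 ∧ (fI i : Sp F W l).2 = 0 ∧
      ∀ v : W, (wI v : Sp F W l).1.1 i = 0 ∧ (wI v : Sp F W l).1.2 i = 0 ∧ (wI v : Sp F W l).2 = v := by
    simp [eI, fI, wI]
  obtain ⟨c1, c2, c3, c4, c5, c6, c7⟩ := c1
  have hp : polar Q z z = 2 * Q z := polar_self_eq z
  have hr : (wI ((rf Q z).1 w) : Sp F W l) = wI w - ((Q z)⁻¹ * polar Q z w) • wI z := by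
    simp [rf_apply, wI, Prod.ext_iff]
  rw [hr]
  simp only [sEl, coe_mul_apply, eichS, eichS', c1, c2, c3, c4, c5, c6, (c7 w).1, (c7 w).2.1,
      (c7 w).2.2, (c7 z).1, (c7 z).2.1, (c7 z).2.2, Prod.fst_add, Prod.snd_add, Prod.fst_sub,
      Prod.snd_sub, Prod.smul_fst, Prod.smul_snd,
      Pi.add_apply, Pi.sub_apply, Pi.smul_apply, smul_eq_mul, polar_add_right, polar_sub_right,
      polar_smul_right, polar_zero_right, hp]
  match_scalars <;> field_simp <;> ring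

end

/-! ### the cycle -/

/-- the product of the `n_{ε_a - ε_{a+1}}`, `a < b` -/
noncomputable def cyc (Q : QuadraticForm F W) [NeZero l] : ℕ → orth (hypSum l Q)
  | 0 => 1
  | a + 1 => cyc Q a * nEl Q (Fin.ofNat l a) (Fin.ofNat l (a + 1)) 1

variable [NeZero l]

theorem cyc_mem : ∀ a, cyc Q (l := l) a ∈ eichGroup (hypSum l Q)
  | 0 => one_mem _
  | a + 1 => mul_mem (cyc_mem a) (nEl_mem _ _ _)

theorem ofNat_ne {i j : ℕ} (hi : i < l) (hj : j < l) (h : i ≠ j) :
    Fin.ofNat l i ≠ Fin.ofNat l j := by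
  simp [Fin.ext_iff, Nat.mod_eq_of_lt hi, Nat.mod_eq_of_lt hj, h]

theorem cyc_spec : ∀ a : ℕ, a < l →
    (∀ j : ℕ, j < a → (cyc Q (l := l) a).1 (eI (Fin.ofNat l j)) = eI (Fin.ofNat l (j + 1)) ∧
      (cyc Q (l := l) a).1 (fI (Fin.ofNat l j)) = fI (Fin.ofNat l (j + 1))) ∧
    ((cyc Q (l := l) a).1 (eI (Fin.ofNat l a)) = (-1 : F) ^ a • eI (Fin.ofNat l 0) ∧
      (cyc Q (l := l) a).1 (fI (Fin.ofNat l a)) = (-1 : F) ^ a • fI (Fin.ofNat l 0)) ∧
    (∀ j : ℕ, a < j → j < l → (cyc Q (l := l) a).1 (eI (Fin.ofNat l j)) = eI (Fin.ofNat l j) ∧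
      (cyc Q (l := l) a).1 (fI (Fin.ofNat l j)) = fI (Fin.ofNat l j)) ∧
    ∀ w, (cyc Q (l := l) a).1 (wI w) = wI w := by
  intro a
  induction a with
  | zero =>
    intro _
    refine ⟨fun j hj => absurd hj j.not_lt_zero, ⟨?_, ?_⟩, fun j _ _ => ⟨rfl, rfl⟩, fun w => rfl⟩ <;>
      simp [cyc]
  | succ a ih =>
    intro ha
    obtain ⟨h1, ⟨h2, h2'⟩, h3, h4⟩ := ih (by omega)
    have hne := ofNat_ne (l := l) (show a < l by omega) ha (by omega)
    obtain ⟨n1, n2, n3, n4⟩ := nEl_apply (Q := Q) hne (one_ne_zero (α := F))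
    rw [inv_one, one_smul] at n1
    rw [inv_one] at n4
    rw [one_smul] at n3
    refine ⟨fun j hj => ?_, ⟨?_, ?_⟩, fun j hj hjl => ?_, fun w => ?_⟩
    · rcases Nat.lt_succ_iff_lt_or_eq.1 hj with hj' | rfl
      · obtain ⟨e, f⟩ := nEl_fix (Q := Q) hne (t := 1) (k := Fin.ofNat l j)
          (ofNat_ne (by omega) (by omega) (by omega)) (ofNat_ne (by omega) ha (by omega))
        simp only [cyc, coe_mul_apply, e, f]
        exact h1 j hj'
      · simp only [cyc, coe_mul_apply, n1, n3]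
        exact h3 (j + 1) (by omega) ha
    · simp only [cyc, coe_mul_apply, n2, map_smul, h2, smul_smul, pow_succ']
    · simp only [cyc, coe_mul_apply, n4, map_smul, h2', smul_smul, pow_succ']
    · obtain ⟨e, f⟩ := nEl_fix (Q := Q) hne (t := 1) (k := Fin.ofNat l j)
        (ofNat_ne hjl (by omega) (by omega)) (ofNat_ne hjl ha (by omega))
      simp only [cyc, coe_mul_apply, e, f]
      exact h3 j (by omega) hjl
    · simp only [cyc, coe_mul_apply, nEl_wI hne, h4]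

/-- the monomial element of the root datum -/
noncomputable def rho (Q : QuadraticForm F W) (l : ℕ) [NeZero l] (z : W) : orth (hypSum l Q) :=
  sEl Q (Fin.ofNat l 0) z * cyc Q (l - 1)

theorem rho_mem (z : W) : rho Q l z ∈ eichGroup (hypSum l Q) := mul_mem (sEl_mem _ _) (cyc_mem _)

variable {z : W} (hz : Q z ≠ 0)

include hz

theorem rho_step {j : ℕ} (hj : j + 1 < l) :
    (rho Q l z).1 (eI (Fin.ofNat l j)) = eI (Fin.ofNat l (j + 1)) ∧
    (rho Q l z).1 (fI (Fin.ofNat l j)) = fI (Fin.ofNat l (j + 1)) := by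
  obtain ⟨h1, -⟩ := cyc_spec (Q := Q) (l - 1) (by omega : l - 1 < l)
  obtain ⟨e, f⟩ := h1 j (by omega)
  obtain ⟨e', f'⟩ := sEl_fix (Q := Q) (i := Fin.ofNat l 0) (z := z)
    (ofNat_ne hj (Nat.pos_of_ne_zero (NeZero.ne l)) (by omega))
  exact ⟨by rw [rho, coe_mul_apply, e, e'], by rw [rho, coe_mul_apply, f, f']⟩

theorem rho_last : ∃ c : F, c ≠ 0 ∧
    (rho Q l z).1 (eI (Fin.ofNat l (l - 1))) = c • fI (Fin.ofNat l 0) ∧
    (rho Q l z).1 (fI (Fin.ofNat l (l - 1))) = c⁻¹ • eI (Fin.ofNat l 0) := by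
  have hl : l - 1 < l := Nat.sub_lt (Nat.pos_of_ne_zero (NeZero.ne l)) one_pos
  obtain ⟨-, ⟨e, f⟩, -⟩ := cyc_spec (Q := Q) (l - 1) hl
  obtain ⟨e', f'⟩ := sEl_apply (Q := Q) (i := Fin.ofNat l 0) hz
  refine ⟨(-1 : F) ^ (l - 1) * -(Q z)⁻¹, mul_ne_zero (pow_ne_zero _ (neg_ne_zero.2 one_ne_zero))
    (neg_ne_zero.2 (inv_ne_zero hz)), ?_, ?_⟩
  · rw [rho, coe_mul_apply, e, map_smul, e', smul_smul]
  · rw [rho, coe_mul_apply, f, map_smul, f', smul_smul]
    rcases neg_one_pow_eq_or F (l - 1) with h | h <;> rw [h] <;> simp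

theorem rho_wI (w : W) : (rho Q l z).1 (wI w) = wI ((rf Q z).1 w) := by
  have hl : l - 1 < l := Nat.sub_lt (Nat.pos_of_ne_zero (NeZero.ne l)) one_pos
  obtain ⟨-, -, -, h⟩ := cyc_spec (Q := Q) (l - 1) hl
  rw [rho, coe_mul_apply, h, sEl_wI hz]

end Cfsg.Agent.ChevGen.OrthGen
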