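/-
Two generators of the Eichler group of a sum of hyperbolic planes and a small form.
-/
import Cfsg.Agent.Lib.ChevGen.OrthElems
import Cfsg.Agent.Lib.UnitaryOrthogonal.HypGenerate
import Cfsg.Agent.Lib.UnitaryOrthogonal.OmegaStandard
import Cfsg.Agent.Lib.ChevGen.Step

set_option autoImplicit false

namespace Cfsg.Agent.ChevGen.OrthGen

open QuadraticMap Cfsg.Agent.UnitaryOrthogonal

variable {F W : Type*} [Field F] [AddCommGroup W] [Module F W] {Q : QuadraticForm F W} {l : ℕ}
  [NeZero l]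

theorem perp_eI_wI (i : Fin l) (w : W) : polar (hypSum l Q) (eI i) (wI w) = 0 := by
  rw [polar_eI]; simp [wI]

theorem perp_fI_wI (i : Fin l) (w : W) : polar (hypSum l Q) (fI i) (wI w) = 0 := by
  rw [polar_fI]; simp [wI]

theorem rf_rf (z w : W) : (rf Q z).1 ((rf Q z).1 w) = w := by
  rw [← coe_mul_apply, rf_mul_self, coe_one_apply]

/-- the radical at `e₀` in `P` -/
noncomputable def radZ (P : Subgroup (orth (hypSum l Q))) : AddSubgroup (Sp F W l) where
  carrier := {v | polar (hypSum l Q) (eI 0) v = 0 ∧ eich (hypSum l Q) (eI 0) v ∈ P}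
  zero_mem' := ⟨by simp, by rw [eich_zero]; exact P.one_mem⟩
  add_mem' := by
    rintro a b ⟨ha, ha'⟩ ⟨hb, hb'⟩
    refine ⟨by rw [polar_add_right, ha, hb, add_zero], ?_⟩
    rw [← eich_mul (form_eI _) ha hb]
    exact P.mul_mem ha' hb'
  neg_mem' := by
    rintro a ⟨ha, ha'⟩
    refine ⟨by rw [polar_neg_right, ha, neg_zero], ?_⟩
    rw [← eich_inv (form_eI _) ha]
    exact P.inv_mem ha'

theorem radZ_diff {P : Subgroup (orth (hypSum l Q))} {g : orth (hypSum l Q)} (hg : g ∈ P)
    (hg0 : g.1 (eI 0) = eI 0) {v d : Sp F W l} (hv : v ∈ radZ P) (h : g.1 v = v + d) :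
    d ∈ radZ P := by
  have h1 : g.1 v ∈ radZ P := by
    refine ⟨?_, ?_⟩
    · rw [← hg0, map_polar]; exact hv.1
    · have := P.mul_mem (P.mul_mem hg hv.2) (P.inv_mem hg)
      rwa [conj_eich, hg0] at this
  have := sub_mem h1 hv
  rwa [h, add_sub_cancel_left] at this

variable {z : W} (hz : Q z ≠ 0) (hQ : PolarND Q)

include hz hQ

/-- the whole radical at `e₀` over `W`, and the monomial element, generate -/
theorem eichGroup_le (hl : 2 ≤ l) {P : Subgroup (orth (hypSum l Q))} (hρ : rho Q l z ∈ P)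
    (hW : ∀ w, eich (hypSum l Q) (eI 0) (wI w) ∈ P) : eichGroup (hypSum l Q) ≤ P := by
  have h00 : Fin.ofNat l 0 = (0 : Fin l) := Fin.ext (Nat.zero_mod l)
  have hstep : ∀ (g : orth (hypSum l Q)), g ∈ P → rho Q l z * g * (rho Q l z)⁻¹ ∈ P :=
    fun g hg => P.mul_mem (P.mul_mem hρ hg) (P.inv_mem hρ)
  -- the radicals over `W` along the orbit
  have hE : ∀ a : ℕ, a < l → ∀ w, eich (hypSum l Q) (eI (Fin.ofNat l a)) (wI w) ∈ P := by
    intro a
    induction a with
    | zero => intro _ w; rw [h00]; exact hW w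
    | succ a ih =>
      intro ha w
      have := hstep _ (ih (by omega) ((rf Q z).1 w))
      rwa [conj_eich, (rho_step hz ha).1, rho_wI hz, rf_rf] at this
  have hF : ∀ a : ℕ, a < l → ∀ w, eich (hypSum l Q) (fI (Fin.ofNat l a)) (wI w) ∈ P := by
    intro a
    induction a with
    | zero =>
      intro _ w
      obtain ⟨c, hc, hc1, -⟩ := rho_last (Q := Q) (l := l) hz
      have := hstep _ (hE (l - 1) (by omega) (c⁻¹ • (rf Q z).1 w))
      rwa [conj_eich, hc1, rho_wI hz, map_smul, rf_rf, eich_smul_left (form_fI _) (perp_fI_wI _ _),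
        ← wI_smul, smul_smul, mul_inv_cancel₀ hc, one_smul] at this
    | succ a ih =>
      intro ha w
      have := hstep _ (ih (by omega) ((rf Q z).1 w))
      rwa [conj_eich, (rho_step hz ha).2, rho_wI hz, rf_rf] at this
  -- the radical at `e₀`
  have hZw : ∀ w, wI w ∈ radZ P := fun w => ⟨perp_eI_wI _ _, hW w⟩
  obtain ⟨w, hw⟩ : ∃ w, polar Q w z ≠ 0 := by
    by_contra! hno
    exact hz (by rw [hQ z fun x => by rw [polar_comm]; exact hno x, map_zero])
  have hei : ∀ i : Fin l, i ≠ 0 → ∀ t : F, t • (eI i : Sp F W l) ∈ radZ P ∧ t • (fI i : Sp F W l) ∈ radZ P := by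
    intro i hi t
    have e : Fin.ofNat l i.val = i := Fin.ext (Nat.mod_eq_of_lt i.isLt)
    have h1 : (eI i : Sp F W l).1.2 0 = 0 ∧ (fI i : Sp F W l).1.1 0 = 0 := by simp [eI, fI]
    set s := t / polar Q w z
    have hs : s * polar Q w z = t := div_mul_cancel₀ _ hw
    have h4 : (eI 0 : Sp F W l).2 = 0 := by simp [eI]
    constructor
    · have h2 := hE i.val i.isLt w
      rw [e] at h2
      have := radZ_diff h2 ?_ (hZw (s • z)) (d := -(t • eI i)) ?_
      · simpa using neg_mem this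
      · rw [eich_apply (form_eI _) (perp_eI_wI _ _), polar_eI, polar_wI, h4, polar_zero_right]
        simp [eI]
      · rw [eich_apply (form_eI _) (perp_eI_wI _ _), polar_eI, polar_wI,
          show (wI (s • z) : Sp F W l).2 = s • z from rfl, polar_smul_right, smul_eq_mul, hs,
          show (wI (s • z) : Sp F W l).1.2 i = 0 from rfl]
        module
    · have h2 := hF i.val i.isLt w
      rw [e] at h2
      have := radZ_diff h2 ?_ (hZw (s • z)) (d := -(t • fI i)) ?_
      · simpa using neg_mem this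
      · rw [eich_apply (form_fI _) (perp_fI_wI _ _), polar_fI, polar_wI, h4, polar_zero_right]
        simp [eI, hi]
      · rw [eich_apply (form_fI _) (perp_fI_wI _ _), polar_fI, polar_wI,
          show (wI (s • z) : Sp F W l).2 = s • z from rfl, polar_smul_right, smul_eq_mul, hs,
          show (wI (s • z) : Sp F W l).1.1 i = 0 from rfl]
        module
  have hall : ∀ v : Sp F W l, v.1.1 0 = 0 → v.1.2 0 = 0 → eich (hypSum l Q) (eI 0) v ∈ P := by
    intro v hx hy
    have hv : v ∈ radZ P := by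
      rw [decomp v]
      refine add_mem (add_mem (AddSubgroup.sum_mem _ fun i _ => ?_) (AddSubgroup.sum_mem _ fun i _ => ?_)) (hZw _)
      · by_cases hi : i = 0
        · rw [hi, hx, zero_smul]; exact zero_mem _
        · exact (hei i hi _).1
      · by_cases hi : i = 0
        · rw [hi, hy, zero_smul]; exact zero_mem _
        · exact (hei i hi _).2
    exact hv.2
  -- the radical at `f₀`
  obtain ⟨τ, c, hτ, hc, hτe⟩ : ∃ (τ : orth (hypSum l Q)) (c : F), τ ∈ P ∧ c ≠ 0 ∧
      τ.1 (eI 0) = c • fI 0 := by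
    have key : ∀ a : ℕ, a < l → (rho Q l z ^ a).1 (eI 0) = eI (Fin.ofNat l a) := by
      intro a
      induction a with
      | zero => intro _; rw [pow_zero, h00]; rfl
      | succ a ih => intro ha; rw [pow_succ', coe_mul_apply, ih (by omega), (rho_step hz ha).1]
    obtain ⟨c, hc, hc1, -⟩ := rho_last (Q := Q) (l := l) hz
    exact ⟨rho Q l z * rho Q l z ^ (l - 1), c, P.mul_mem hρ (P.pow_mem hρ _), hc,
      by rw [coe_mul_apply, key _ (by omega), hc1, h00]⟩
  have hallf : ∀ v : Sp F W l, v.1.1 0 = 0 → v.1.2 0 = 0 → eich (hypSum l Q) (fI 0) v ∈ P := by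
    intro v hx hy
    obtain ⟨v', hv'⟩ : ∃ v', v' = c⁻¹ • τ⁻¹.1 v := ⟨_, rfl⟩
    have h1 : polar (hypSum l Q) (eI 0) v' = 0 := by
      rw [hv', polar_smul_right, ← map_polar τ, coe_apply_inv_apply, hτe, polar_smul_left, polar_fI,
        hx]
      simp
    have h2 : eich (hypSum l Q) (eI 0) v' ∈ P := by
      rw [polar_eI] at h1
      obtain ⟨u, hu⟩ : ∃ u, u = v' + (-v'.1.1 0) • eI 0 := ⟨_, rfl⟩
      have := hall u (by rw [hu]; simp [eI]) (by rw [hu]; simp [eI, h1])
      rwa [hu, eich_add_smul (form_eI _) (by rw [polar_eI, h1])] at this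
    have := P.mul_mem (P.mul_mem hτ h2) (P.inv_mem hτ)
    rwa [conj_eich, hτe, hv', map_smul, coe_apply_inv_apply,
      eich_smul_left (form_fI _) (by rw [polar_smul_right, polar_fI, hx, smul_zero]), smul_smul,
      mul_inv_cancel₀ hc, one_smul] at this
  -- conclude in `H ⊥ rest`
  obtain ⟨k, rfl⟩ : ∃ k, l = k + 1 := ⟨l - 1, by omega⟩
  obtain ⟨e, he⟩ : ∃ e : (hypSum (k + 1) Q).IsometryEquiv (hyp (hypSum k Q)), e = hypSumSucc Q k :=
    ⟨_, rfl⟩
  have hsurj : ∀ c : F, ∃ v, hypSum k Q v = c := fun c => by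
    refine ⟨((Pi.single ⟨0, by omega⟩ c, Pi.single ⟨0, by omega⟩ 1), 0), ?_⟩
    simp [Pi.single_apply]
  have he' : ∀ v : Sp F W (k + 1),
      e v = ((v.1.1 0, v.1.2 0), ((Fin.tail v.1.1, Fin.tail v.1.2), v.2)) := fun v => by
    rw [he]; rfl
  have e1 : e (eI 0) = eVec F _ := by
    rw [he']
    refine Prod.ext (Prod.ext ?_ ?_) (Prod.ext (Prod.ext (funext fun j => ?_) (funext fun j => ?_)) ?_) <;>
      simp [eI, eVec, Fin.tail, Fin.succ_ne_zero]
  have e2 : e (fI 0) = fVec F _ := by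
    rw [he']
    refine Prod.ext (Prod.ext ?_ ?_) (Prod.ext (Prod.ext (funext fun j => ?_) (funext fun j => ?_)) ?_) <;>
      simp [fI, fVec, Fin.tail, Fin.succ_ne_zero]
  have e3 : ∀ u, ∃ v : Sp F W (k + 1), e v = inW u ∧ v.1.1 0 = 0 ∧ v.1.2 0 = 0 := fun u => by
    refine ⟨((Fin.cons 0 u.1.1, Fin.cons 0 u.1.2), u.2), ?_, by simp, by simp⟩
    rw [he']
    simp [inW_apply]
  have hle : eichGroup (hyp (hypSum k Q)) ≤ P.map (orthCongr e).toMonoidHom := by
    refine eichGroup_hyp_le (hQ.nonsing.hypSum k) hsurj (fun u => ?_) fun u => ?_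
    · obtain ⟨v, hv, hx, hy⟩ := e3 u
      exact ⟨_, hall v hx hy, by rw [MulEquiv.coe_toMonoidHom, orthCongr_eich, e1, hv]⟩
    · obtain ⟨v, hv, hx, hy⟩ := e3 u
      exact ⟨_, hallf v hx hy, by rw [MulEquiv.coe_toMonoidHom, orthCongr_eich, e2, hv]⟩
  intro g hg
  obtain ⟨g', hg', hgg⟩ := hle (mem_eichGroup_congr e hg)
  exact (orthCongr e).injective hgg ▸ hg'

/-! ### the generators -/

theorem exists_two_large [Fintype F] (hq : 2 < Fintype.card F) (hl : 2 ≤ l) {z1 z2 : W}
    (hspan : ∀ w : W, ∃ a b : F, w = a • z1 + b • z2) (h3 : z2 = 0 ∨ 3 ≤ l) :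
    ∃ a b, a ∈ eichGroup (hypSum l Q) ∧ b ∈ eichGroup (hypSum l Q) ∧
      Subgroup.closure {a, b} = eichGroup (hypSum l Q) := by
  classical
  obtain ⟨k, hk⟩ := IsCyclic.exists_generator (α := Fˣ)
  have hk0 : (k : F) ≠ 0 := k.ne_zero
  set o := Fin.ofNat l 0 with ho
  set last := Fin.ofNat l (l - 1) with hlast
  set one := Fin.ofNat l 1 with hone
  have hol : o ≠ last := ofNat_ne (by omega) (by omega) (by omega)
  have ho0 : o = 0 := Fin.ext (Nat.zero_mod l)
  set Φ := hypSum l Q
  set h := nEl Q o last (k : F) * (nEl Q o last 1)⁻¹ with hh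
  obtain ⟨n1, n2, n3, n4⟩ := nEl_apply (Q := Q) hol hk0
  obtain ⟨m1, m2, m3, m4⟩ := nEl_apply (Q := Q) hol (one_ne_zero (α := F))
  simp only [inv_one, one_smul, neg_one_smul] at m1 m2 m3 m4
  have flip : ∀ x y, (nEl Q o last 1).1 x = y → (nEl Q o last 1)⁻¹.1 y = x := by
    intro x y hxy; rw [← hxy, coe_inv_apply_apply]
  have he0 : h.1 (eI o) = (k : F) • eI o := by
    rw [hh, coe_mul_apply, flip (-eI last) (eI o) (by rw [map_neg, m2, neg_neg]), map_neg, n2,
      neg_smul, neg_neg]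
  have hf0 : h.1 (fI o) = (k : F)⁻¹ • fI o := by
    rw [hh, coe_mul_apply, flip (-fI last) (fI o) (by rw [map_neg, m4, neg_neg]), map_neg, n4,
      neg_smul, neg_neg]
  have hel : h.1 (eI last) = (k : F)⁻¹ • eI last := by
    rw [hh, coe_mul_apply, flip (eI o) (eI last) m1, n1]
  have hfl : h.1 (fI last) = (k : F) • fI last := by
    rw [hh, coe_mul_apply, flip (fI o) (fI last) m3, n3]
  have hfix : ∀ i, i ≠ o → i ≠ last → h.1 (eI i) = eI i ∧ h.1 (fI i) = fI i := by
    intro i hi hi'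
    obtain ⟨a, b⟩ := nEl_fix (Q := Q) hol (t := 1) hi hi'
    obtain ⟨c, d⟩ := nEl_fix (Q := Q) hol (t := (k : F)) hi hi'
    exact ⟨by rw [hh, coe_mul_apply, flip _ _ a, c], by rw [hh, coe_mul_apply, flip _ _ b, d]⟩
  have hw : ∀ w, h.1 (wI w) = wI w := fun w => by
    rw [hh, coe_mul_apply, flip _ _ (nEl_wI hol 1 w), nEl_wI hol]
  -- `h` is diagonal
  have hdiag : ∀ i, (∃ c : F, c ≠ 0 ∧ h.1 (eI i) = c • eI i) ∧ ∃ c : F, c ≠ 0 ∧ h.1 (fI i) = c • fI i := by
    intro i
    by_cases hi : i = o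
    · subst hi; exact ⟨⟨_, hk0, he0⟩, ⟨_, inv_ne_zero hk0, hf0⟩⟩
    by_cases hi' : i = last
    · subst hi'; exact ⟨⟨_, inv_ne_zero hk0, hel⟩, ⟨_, hk0, hfl⟩⟩
    obtain ⟨a, b⟩ := hfix i hi hi'
    exact ⟨⟨1, one_ne_zero, by rw [a, one_smul]⟩, ⟨1, one_ne_zero, by rw [b, one_smul]⟩⟩
  have hhq : h ^ (Fintype.card F - 1) = 1 := by
    have key : ∀ (v : Sp F W l) (c : F), h.1 v = c • v → ∀ N : ℕ, (h ^ N).1 v = c ^ N • v := by
      intro v c hv N
      induction N with
      | zero => simp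
      | succ N ih => rw [pow_succ', coe_mul_apply, ih, map_smul, hv, smul_smul, pow_succ]
    refine ext_std (fun i => ?_) (fun i => ?_) fun w => ?_
    · obtain ⟨c, hc, e⟩ := (hdiag i).1
      rw [key _ _ e, FiniteField.pow_card_sub_one_eq_one _ hc, one_smul]; rfl
    · obtain ⟨c, hc, e⟩ := (hdiag i).2
      rw [key _ _ e, FiniteField.pow_card_sub_one_eq_one _ hc, one_smul]; rfl
    · rw [key _ 1 (by rw [hw, one_smul]), one_pow, one_smul]; rfl
  set y := eich Φ (eI one) (wI ((rf Q z).1 z2)) with hy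
  set ρ := rho Q l z with hρdef
  set x : F → orth Φ := fun t => eich Φ (eI 0) (wI (t • z1)) with hxdef
  have hadd : ∀ s t, x (s + t) = x s * x t := fun s t => by
    simp only [hxdef]
    rw [eich_mul (form_eI _) (perp_eI_wI _ _) (perp_eI_wI _ _), ← wI_add, add_smul]
  have hhE : h ∈ eichGroup Φ := by
    rw [hh]; exact mul_mem (nEl_mem _ _ _) (inv_mem (nEl_mem _ _ _))
  refine ⟨h * y, x 1 * ρ, mul_mem hhE (eich_mem_eichGroup _ _),
    mul_mem (eich_mem_eichGroup _ _) (rho_mem z), le_antisymm ?_ ?_⟩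
  · rw [Subgroup.closure_le]
    rintro g (rfl | rfl)
    exacts [mul_mem hhE (eich_mem_eichGroup _ _), mul_mem (eich_mem_eichGroup _ _) (rho_mem z)]
  set P := Subgroup.closure ({h * y, x 1 * ρ} : Set (orth Φ))
  have haP : h * y ∈ P := Subgroup.subset_closure (by simp)
  have hcy : Commute h y := by
    rcases h3 with h3 | h3
    · rw [hy, h3, map_zero, wI_zero, eich_zero]; exact Commute.one_right h
    · rw [Commute, SemiconjBy, ← mul_inv_eq_iff_eq_mul, hy, conj_eich,
        (hfix one (ofNat_ne (by omega) (by omega) (by omega))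
          (ofNat_ne (by omega) (by omega) (by omega))).1, hw]
  have hyP : y ∈ P := by
    have hyN : ∀ N : ℕ, y ^ N = eich Φ (eI one) (wI ((N : F) • (rf Q z).1 z2)) := fun N => by
      induction N with
      | zero => rw [pow_zero, Nat.cast_zero, zero_smul, wI_zero, eich_zero]
      | succ N ih =>
        rw [pow_succ, ih, hy, eich_mul (form_eI _) (perp_eI_wI _ _) (perp_eI_wI _ _), ← wI_add,
          Nat.cast_succ, add_smul, one_smul]
    have e : (h * y) ^ (Fintype.card F - 1) = y⁻¹ := by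
      rw [hcy.mul_pow, hhq, one_mul, hyN, hy, eich_inv (form_eI _) (perp_eI_wI _ _), ← wI_neg,
        Nat.cast_sub Fintype.card_pos, Nat.cast_card_eq_zero, Nat.cast_one, zero_sub, neg_one_smul]
    have := P.pow_mem haP (Fintype.card F - 1)
    rw [e] at this
    exact inv_mem_iff.1 this
  have hhP : h ∈ P := by
    have := P.mul_mem haP (P.inv_mem hyP)
    rwa [mul_inv_cancel_right] at this
  set h' := ρ * h * ρ⁻¹ with hh'
  have inv_flip : ∀ u v, ρ.1 u = v → ρ⁻¹.1 v = u := by
    intro u v huv; rw [← huv, coe_inv_apply_apply]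
  have himg : ∀ (u : Sp F W l) (c : F), h.1 u = c • u → h'.1 (ρ.1 u) = c • ρ.1 u := fun u c hu => by
    rw [hh', coe_mul_apply, coe_mul_apply, coe_inv_apply_apply, hu, map_smul]
  obtain ⟨c, hc, hc1, hc2⟩ := rho_last (Q := Q) (l := l) hz
  have hh'0 : h'.1 (eI o) = (k : F) • eI o := by
    have := himg _ _ hfl
    rw [hρdef] at this
    rw [hc2, map_smul, smul_comm] at this
    exact smul_right_injective _ (inv_ne_zero hc) this
  have hh'w : ∀ w, h'.1 (wI w) = wI w := fun w => by
    have := himg (wI ((rf Q z).1 w)) 1 (by rw [hw, one_smul])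
    rwa [hρdef, rho_wI hz, rf_rf, one_smul] at this
  have hdiag' : ∀ i, (∃ c : F, h'.1 (eI i) = c • eI i) ∧ ∃ c : F, h'.1 (fI i) = c • fI i := by
    intro i
    have hi : Fin.ofNat l i.val = i := Fin.ext (Nat.mod_eq_of_lt i.isLt)
    rw [← hi]
    rcases Nat.eq_zero_or_pos i.val with h0 | h0
    · rw [h0]
      refine ⟨⟨_, hh'0⟩, ⟨(k : F)⁻¹, ?_⟩⟩
      have := himg _ _ hel
      rw [hρdef] at this
      rw [hc1, map_smul, smul_comm] at this
      exact smul_right_injective _ hc this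
    · obtain ⟨a, ha⟩ : ∃ a, i.val = a + 1 := ⟨i.val - 1, by omega⟩
      obtain ⟨se, sf⟩ := rho_step (Q := Q) (l := l) hz (j := a) (by omega)
      obtain ⟨⟨d, -, hd⟩, ⟨d', -, hd'⟩⟩ := hdiag (Fin.ofNat l a)
      rw [ha]
      refine ⟨⟨d, ?_⟩, ⟨d', ?_⟩⟩
      · have := himg _ _ hd; rwa [hρdef, se] at this
      · have := himg _ _ hd'; rwa [hρdef, sf] at this
  have hcomm : Commute h h' := by
    refine ext_std (fun i => ?_) (fun i => ?_) fun w => ?_
    · obtain ⟨c1, -, e1⟩ := (hdiag i).1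
      obtain ⟨c2, e2⟩ := (hdiag' i).1
      simp only [coe_mul_apply, e1, e2, map_smul, smul_smul, mul_comm]
    · obtain ⟨c1, -, e1⟩ := (hdiag i).2
      obtain ⟨c2, e2⟩ := (hdiag' i).2
      simp only [coe_mul_apply, e1, e2, map_smul, smul_smul, mul_comm]
    · simp only [coe_mul_apply, hw, hh'w]
  have hconj : ∀ (g : orth Φ), g.1 (eI o) = (k : F) • eI o → (∀ w, g.1 (wI w) = wI w) →
      ∀ u : W, g * eich Φ (eI 0) (wI u) * g⁻¹ = eich Φ (eI 0) (wI ((k : F) • u)) := by
    intro g hg hgw u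
    rw [conj_eich, ← ho0, hg, hgw, eich_smul_left (form_eI _) (perp_eI_wI _ _), wI_smul]
  obtain ⟨hX, hρP⟩ := steinberg_step hadd (h' := h') (n := ρ) (c := (k : F)) (c' := (k : F)) rfl
    hcomm (fun t => by simp only [hxdef]; rw [hconj h he0 hw, smul_smul])
    (fun t => by simp only [hxdef]; rw [hconj h' hh'0 hh'w, smul_smul])
    (gen_ne_one hq hk) (gen_ne_one hq hk) hk0 (subringClosure_gen hk) hhP
    (Subgroup.subset_closure (by simp) : x 1 * ρ ∈ P)
  refine eichGroup_le hz hQ hl hρP fun w => ?_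
  obtain ⟨a, b, rfl⟩ := hspan w
  rw [wI_add, ← eich_mul (form_eI _) (perp_eI_wI _ _) (perp_eI_wI _ _)]
  refine P.mul_mem (hX a) ?_
  refine root_mem_of_line (x := fun t => eich Φ (eI 0) (wI (t • z2))) (fun s t => ?_) hhP
    (c := (k : F)) (fun t => by rw [hconj h he0 hw, smul_smul]) (subringClosure_gen hk)
    one_ne_zero ?_ b
  · rw [eich_mul (form_eI _) (perp_eI_wI _ _) (perp_eI_wI _ _), ← wI_add, add_smul]
  · have := P.mul_mem (P.mul_mem (P.inv_mem hρP) hyP) (P.inv_mem (P.inv_mem hρP))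
    rw [hy, conj_eich, inv_flip (eI o) (eI one) (rho_step hz (j := 0) (by omega)).1,
      inv_flip (wI z2) (wI ((rf Q z).1 z2)) (rho_wI hz z2), ho0] at this
    rwa [one_smul]

theorem exists_two_card_two [Fintype F] (hq : Fintype.card F = 2) (hl : 3 ≤ l) {z1 : W}
    (hspan : ∀ w : W, ∃ a b : F, w = a • z1 + b • (rf Q z).1 z1) :
    ∃ a b, a ∈ eichGroup (hypSum l Q) ∧ b ∈ eichGroup (hypSum l Q) ∧
      Subgroup.closure {a, b} = eichGroup (hypSum l Q) := by
  classical
  have h20 : (2 : F) = 0 := by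
    have := Nat.cast_card_eq_zero F; rwa [hq, Nat.cast_ofNat] at this
  have hneg : ∀ t : F, -t = t := fun t => by linear_combination (-t) * h20
  have hF : ∀ t : F, t = 0 ∨ t = 1 := fun t => by
    by_contra! h
    have := Fintype.two_lt_card_iff.2 ⟨0, 1, t, zero_ne_one, h.1.symm, h.2.symm⟩
    omega
  have hv2 : ∀ v : Sp F W l, v + v = 0 := fun v => by rw [← two_smul F v, h20, zero_smul]
  have hnv : ∀ v : Sp F W l, -v = v := fun v => neg_eq_of_add_eq_zero_left (hv2 v)
  set o := Fin.ofNat l 0 with ho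
  set one := Fin.ofNat l 1 with hone
  set two := Fin.ofNat l 2 with htwo
  have ho0 : o = 0 := Fin.ext (Nat.zero_mod l)
  have h01 : o ≠ one := ofNat_ne (by omega) (by omega) (by omega)
  have h20' : two ≠ o := ofNat_ne (by omega) (by omega) (by omega)
  have h21 : two ≠ one := ofNat_ne (by omega) (by omega) (by omega)
  set Φ := hypSum l Q
  set ρ := rho Q l z with hρdef
  set T := eich Φ (eI o) ((1 : F) • fI one) * eich Φ (fI o) ((1 : F) • eI one) with hT
  set y := eich Φ (eI two) (wI z1) with hy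
  have c1 : T.1 (eI o) = eI one ∧ T.1 (eI one) = eI o + eI one ∧
      T.1 (fI o) = fI o + fI one ∧ T.1 (fI one) = fI o := by
    refine ⟨?_, ?_, ?_, ?_⟩ <;> simp only [hT, coe_mul_apply, Φ, eichA h01, eichB h01] <;>
      simp [eI, fI, Prod.ext_iff, funext_iff, Pi.single_apply, h01, h01.symm, sub_eq_add_neg,
        hneg, one_add_one_eq_two, h20] <;>
      refine fun k => ?_ <;> by_cases hk : k = o <;> by_cases hk' : k = one <;>
        simp_all <;> linear_combination h20
  obtain ⟨t1, t2, t3, t4⟩ := c1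
  have tfix : ∀ i, i ≠ o → i ≠ one → T.1 (eI i) = eI i ∧ T.1 (fI i) = fI i := fun i hi hi' => by
    constructor <;> simp only [hT, coe_mul_apply, Φ, eichA h01, eichB h01] <;>
      simp [eI, fI, hi.symm, hi'.symm]
  have tw : ∀ w, T.1 (wI w) = wI w := fun w => by
    simp only [hT, coe_mul_apply, Φ, eichA h01, eichB h01]; simp [wI]
  have hc : ∀ a b : Sp F W l, a + b + a = b := fun a b => by
    rw [add_comm a b, add_assoc, hv2, add_zero]
  have hc' : ∀ a b : Sp F W l, a + (b + a) = b := fun a b => by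
    rw [add_left_comm, hv2, add_zero]
  have hT3 : T * T * T = 1 := by
    refine ext_std (fun i => ?_) (fun i => ?_) fun w => ?_
    · by_cases hi : i = o
      · subst hi
        simp only [coe_mul_apply, t1, t2, map_add, coe_one_apply]
        exact hc' _ _
      by_cases hi' : i = one
      · subst hi'
        simp only [coe_mul_apply, t1, t2, map_add, coe_one_apply]
        exact hc' _ _
      simp only [coe_mul_apply, (tfix i hi hi').1, coe_one_apply]
    · by_cases hi : i = o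
      · subst hi
        simp only [coe_mul_apply, t3, t4, map_add, coe_one_apply]
        exact hc _ _
      by_cases hi' : i = one
      · subst hi'
        simp only [coe_mul_apply, t3, t4, map_add, coe_one_apply]
        exact hc _ _
      simp only [coe_mul_apply, (tfix i hi hi').2, coe_one_apply]
    · simp only [coe_mul_apply, tw, coe_one_apply]
  refine ⟨ρ, y * T, rho_mem z, mul_mem (eich_mem_eichGroup _ _)
    (mul_mem (eich_mem_eichGroup _ _) (eich_mem_eichGroup _ _)), le_antisymm ?_ ?_⟩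
  · rw [Subgroup.closure_le]
    rintro g (rfl | rfl)
    exacts [rho_mem z, mul_mem (eich_mem_eichGroup _ _)
      (mul_mem (eich_mem_eichGroup _ _) (eich_mem_eichGroup _ _))]
  set P := Subgroup.closure ({ρ, y * T} : Set (orth Φ))
  have hρP : ρ ∈ P := Subgroup.subset_closure (by simp)
  have hbP : y * T ∈ P := Subgroup.subset_closure (by simp)
  have hTy : T * y = y * T := by
    rw [← mul_inv_eq_iff_eq_mul, hy, conj_eich, (tfix two h20' h21).1, tw]
  have hyy : y * y = 1 := by
    rw [hy, eich_mul (form_eI _) (perp_eI_wI _ _) (perp_eI_wI _ _), hv2, eich_zero]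
  have hTP : T ∈ P := by
    have e : y * T * (y * T) = T⁻¹ := by
      rw [show y * T * (y * T) = y * (T * y) * T by group, hTy,
        show y * (y * T) * T = y * y * (T * T) by group, hyy, one_mul]
      exact eq_inv_of_mul_eq_one_left hT3
    exact inv_mem_iff.1 (e ▸ P.mul_mem hbP hbP)
  have hyP : y ∈ P := by
    have := P.mul_mem hbP (P.inv_mem hTP)
    rwa [mul_inv_cancel_right] at this
  have inv_flip : ∀ u v, ρ.1 u = v → ρ⁻¹.1 v = u := by
    intro u v huv; rw [← huv, coe_inv_apply_apply]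
  have back : ∀ (j : ℕ) (w : W), j + 1 < l → eich Φ (eI (Fin.ofNat l (j + 1))) (wI w) ∈ P →
      eich Φ (eI (Fin.ofNat l j)) (wI ((rf Q z).1 w)) ∈ P := by
    intro j w hj hm
    have := P.mul_mem (P.mul_mem (P.inv_mem hρP) hm) (P.inv_mem (P.inv_mem hρP))
    rwa [conj_eich, inv_flip _ _ (rho_step hz hj).1,
      inv_flip (wI ((rf Q z).1 w)) (wI w) (by rw [hρdef, rho_wI hz, rf_rf])] at this
  have a0 : eich Φ (eI o) (wI z1) ∈ P := by
    have := back 0 _ (by omega) (back 1 z1 (by omega) hyP)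
    rwa [rf_rf] at this
  have a1 : eich Φ (eI one) (wI z1) ∈ P := by
    have := P.mul_mem (P.mul_mem hTP a0) (P.inv_mem hTP)
    rwa [conj_eich, t1, tw] at this
  have b0 : eich Φ (eI o) (wI ((rf Q z).1 z1)) ∈ P := back 0 z1 (by omega) a1
  have line : ∀ u, eich Φ (eI o) (wI u) ∈ P → ∀ t : F, eich Φ (eI o) (wI (t • u)) ∈ P := by
    intro u hu t
    rcases hF t with rfl | rfl
    · rw [zero_smul, wI_zero, eich_zero]; exact P.one_mem
    · rwa [one_smul]
  refine eichGroup_le hz hQ (by omega) hρP fun w => ?_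
  obtain ⟨a, b, rfl⟩ := hspan w
  rw [wI_add, ← eich_mul (form_eI _) (perp_eI_wI _ _) (perp_eI_wI _ _), ← ho0]
  exact P.mul_mem (line _ a0 a) (line _ b0 b)

omit hz hQ in
/-- descent to the projective group -/
theorem exists_two_pomega {V : Type*} [AddCommGroup V] [Module F V] {Φ : QuadraticForm F V}
    {G : Type*} [Group G] (φ : G ≃* orth Φ) (hE : commutator (orth Φ) = eichGroup Φ)
    (h : ∃ a b, a ∈ eichGroup Φ ∧ b ∈ eichGroup Φ ∧ Subgroup.closure {a, b} = eichGroup Φ) :
    ∃ a b : ↥(commutator G) ⧸ Subgroup.center ↥(commutator G),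
      Subgroup.closure ({a, b} : Set (↥(commutator G) ⧸ Subgroup.center ↥(commutator G))) = ⊤ := by
  obtain ⟨a, b, -, -, hab⟩ := h
  have hmap : (commutator G).map φ.toMonoidHom = commutator (orth Φ) := by
    rw [commutator_def, Subgroup.map_commutator, Subgroup.map_top_of_surjective _ φ.surjective,
      commutator_def]
  have hcl : Subgroup.closure {φ.symm a, φ.symm b} = commutator G := by
    apply Subgroup.map_injective (f := φ.toMonoidHom) φ.injective
    rw [hmap, hE, MonoidHom.map_closure, Set.image_pair]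
    simpa using hab
  have ha : φ.symm a ∈ commutator G := hcl ▸ Subgroup.subset_closure (by simp)
  have hb : φ.symm b ∈ commutator G := hcl ▸ Subgroup.subset_closure (by simp)
  refine ChevGen.exists_two_quotient _ (a := ⟨_, ha⟩) (b := ⟨_, hb⟩) ?_
  apply Subgroup.map_injective (commutator G).subtype_injective
  rw [MonoidHom.map_closure, ← MonoidHom.range_eq_map, Subgroup.range_subtype, Set.image_pair]
  exact hcl

omit hz hQ in
theorem commutator_eq [Finite F] [Finite W] (hQ : PolarND Q) (hr : reflGroup Q = ⊤) {k : ℕ}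
    (hex : 1 ≤ k ∨ ∃ a, Q a ≠ 0) :
    commutator (orth (hypSum (k + 2) Q)) = eichGroup (hypSum (k + 2) Q) := by
  have h := commutator_eq_eichGroup (hQ.hypSum k) (exists_hypSum_ne_zero k hex)
    (elemGroup_hypHyp hQ hr k)
  apply Subgroup.map_injective (f := (orthCongr (hypSumTwo Q k)).toMonoidHom)
    (orthCongr (hypSumTwo Q k)).injective
  rw [eichGroup_map, commutator_def, Subgroup.map_commutator,
    Subgroup.map_top_of_surjective _ (orthCongr (hypSumTwo Q k)).surjective, ← commutator_def, h]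

omit hz hQ in
/-- moving the last plane into the anisotropic part -/
def hypSumLast (Q : QuadraticForm F W) (m : ℕ) :
    (hypSum (m + 1) Q).IsometryEquiv (hypSum m (hyp Q)) where
  toFun v := ((Fin.init v.1.1, Fin.init v.1.2), ((v.1.1 (Fin.last m), v.1.2 (Fin.last m)), v.2))
  invFun v := ((Fin.snoc v.1.1 v.2.1.1, Fin.snoc v.1.2 v.2.1.2), v.2.2)
  map_add' _ _ := rfl
  map_smul' _ _ := rfl
  left_inv v := by simp
  right_inv v := by simp
  map_app' v := by simp [Fin.sum_univ_castSucc, Fin.init, add_assoc]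

end Cfsg.Agent.ChevGen.OrthGen
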