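/-
Two generators of the symplectic group.
-/
import Cfsg.Agent.Lib.Symplectic.Perfect
import Cfsg.Agent.Lib.ChevGen.Step

set_option autoImplicit false

namespace Cfsg.Agent.ChevGen.SpGen

open Matrix Cfsg.Agent.Symplectic

variable {m : ℕ} [NeZero m] {F : Type*} [Field F]

/-- the signed cyclic shift of the coordinate pairs -/
def rotV (x : Vec m F) : Vec m F :=
  Sum.elim (fun i => if i = 0 then -x (Sum.inr (i - 1)) else x (Sum.inl (i - 1)))
    (fun i => if i = 0 then x (Sum.inl (i - 1)) else x (Sum.inr (i - 1)))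

/-- `rotV` as a linear map -/
def rotL : Vec m F →ₗ[F] Vec m F where
  toFun := rotV
  map_add' x y := by
    funext j
    rcases j with i | i <;> by_cases h : i = 0 <;> simp [rotV, h, add_comm]
  map_smul' c x := by
    funext j
    rcases j with i | i <;> by_cases h : i = 0 <;> simp [rotV, h]

/-- the monomial element -/
def rot : Sp m F :=
  ⟨LinearMap.toMatrix' (rotL (m := m) (F := F)), by
    rw [mem_iff_form]
    intro u v
    have e : ∀ x : Vec m F, LinearMap.toMatrix' (rotL (m := m) (F := F)) *ᵥ x = rotV x := fun x => by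
      rw [← Matrix.toLin'_apply, Matrix.toLin'_toMatrix']; rfl
    rw [e, e, sympForm_eq_sum, sympForm_eq_sum]
    refine Fintype.sum_equiv (Equiv.subRight (1 : Fin m)) _ _ fun i => ?_
    by_cases h : i = 0 <;> simp [rotV, h] <;> ring⟩

theorem rot_smul (x : Vec m F) : (rot : Sp m F) • x = rotV x := by
  rw [smul_eq]
  show LinearMap.toMatrix' (rotL (m := m) (F := F)) *ᵥ x = rotV x
  rw [← Matrix.toLin'_apply, Matrix.toLin'_toMatrix']; rfl

theorem rot_eI {j : Fin m} (h : j + 1 ≠ 0) : (rot : Sp m F) • eI j = (eI (j + 1) : Vec m F) := by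
  rw [rot_smul]
  funext l
  have key : ∀ i : Fin m, i ≠ j + 1 → i - 1 ≠ j := fun i hi e => hi (sub_eq_iff_eq_add.1 e)
  rcases l with i | i <;> by_cases hij : i = j + 1
  · subst hij; simp [rotV, eI, h]
  · by_cases h0 : i = 0 <;> simp [rotV, eI, h0, hij, Ne.symm h, key i hij] <;>
      (try (have := key i hij; simp_all))
  · subst hij; simp [rotV, eI, h]
  · by_cases h0 : i = 0 <;> simp [rotV, eI, h0, hij, Ne.symm h, key i hij] <;>
      (try (have := key i hij; simp_all))

theorem rot_fI {j : Fin m} (h : j + 1 ≠ 0) : (rot : Sp m F) • fI j = (fI (j + 1) : Vec m F) := by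
  rw [rot_smul]
  funext l
  have key : ∀ i : Fin m, i ≠ j + 1 → i - 1 ≠ j := fun i hi e => hi (sub_eq_iff_eq_add.1 e)
  rcases l with i | i <;> by_cases hij : i = j + 1
  · subst hij; simp [rotV, fI, h]
  · by_cases h0 : i = 0 <;> simp [rotV, fI, h0, hij, Ne.symm h, key i hij] <;>
      (try (have := key i hij; simp_all))
  · subst hij; simp [rotV, fI, h]
  · by_cases h0 : i = 0 <;> simp [rotV, fI, h0, hij, Ne.symm h, key i hij] <;>
      (try (have := key i hij; simp_all))

theorem rot_eI_last {j : Fin m} (h : j + 1 = 0) : (rot : Sp m F) • eI j = (fI 0 : Vec m F) := by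
  rw [rot_smul]
  funext l
  have hj : (0 : Fin m) - 1 = j := by rw [← h]; simp
  rcases l with i | i <;> by_cases h0 : i = 0 <;>
    simp [rotV, eI, fI, h0, hj, Pi.single_apply, sub_eq_iff_eq_add, h]

theorem rot_fI_last {j : Fin m} (h : j + 1 = 0) : (rot : Sp m F) • fI j = -(eI 0 : Vec m F) := by
  rw [rot_smul]
  funext l
  have hj : (0 : Fin m) - 1 = j := by rw [← h]; simp
  rcases l with i | i <;> by_cases h0 : i = 0 <;>
    simp [rotV, eI, fI, h0, hj, Pi.single_apply, sub_eq_iff_eq_add, h]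

/-- scaling of one hyperbolic pair -/
def tor (i : Fin m) (k : Fˣ) : Sp m F :=
  ⟨Matrix.diagonal (Sum.elim (fun j => if j = i then (k : F) else 1)
      (fun j => if j = i then ((k⁻¹ : Fˣ) : F) else 1)), by
    rw [mem_iff_form]
    intro u v
    simp only [sympForm_eq_sum, Matrix.mulVec_diagonal, Sum.elim_inl, Sum.elim_inr]
    refine Finset.sum_congr rfl fun j _ => ?_
    by_cases h : j = i
    · simp [h]; field_simp
    · simp [h]⟩

theorem tor_apply_inl (i j : Fin m) (k : Fˣ) (x : Vec m F) :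
    (tor i k • x) (Sum.inl j) = (if j = i then (k : F) else 1) * x (Sum.inl j) := by
  rw [smul_eq]; simp [tor, Matrix.mulVec_diagonal]

theorem tor_apply_inr (i j : Fin m) (k : Fˣ) (x : Vec m F) :
    (tor i k • x) (Sum.inr j) = (if j = i then ((k⁻¹ : Fˣ) : F) else 1) * x (Sum.inr j) := by
  rw [smul_eq]; simp [tor, Matrix.mulVec_diagonal]

theorem tor_eI (i j : Fin m) (k : Fˣ) :
    tor i k • (eI j : Vec m F) = (if j = i then (k : F) else 1) • eI j := by
  funext l
  rcases l with l | l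
  · rw [tor_apply_inl]
    by_cases h : l = j <;> simp [eI, h]
  · rw [tor_apply_inr]; simp [eI]

theorem tor_fI (i j : Fin m) (k : Fˣ) :
    tor i k • (fI j : Vec m F) = (if j = i then ((k⁻¹ : Fˣ) : F) else 1) • fI j := by
  funext l
  rcases l with l | l
  · rw [tor_apply_inl]; simp [fI]
  · rw [tor_apply_inr]
    by_cases h : l = j <;> simp [fI, h]

theorem tor_pow (i : Fin m) (k : Fˣ) (n : ℕ) : tor i k ^ n = tor (F := F) i (k ^ n) := by
  induction n with
  | zero =>
    refine (eq_of_smul_eq fun x => ?_).symm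
    funext l
    rcases l with l | l
    · rw [tor_apply_inl]; simp
    · rw [tor_apply_inr]; simp
  | succ n ih =>
    rw [pow_succ, ih]
    refine eq_of_smul_eq fun x => ?_
    funext l
    rcases l with l | l
    · rw [mul_smul, tor_apply_inl, tor_apply_inl, tor_apply_inl, ← mul_assoc]
      by_cases h : l = i <;> simp [h, pow_succ]
    · rw [mul_smul, tor_apply_inr, tor_apply_inr, tor_apply_inr, ← mul_assoc]
      by_cases h : l = i <;> simp [h, pow_succ, mul_comm]

theorem rot_conj_tor {i : Fin m} (h : i + 1 ≠ 0) (k : Fˣ) :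
    rot * tor i k * (rot : Sp m F)⁻¹ = tor (i + 1) k := by
  rw [mul_inv_eq_iff_eq_mul]
  refine eq_of_smul_eq fun x => ?_
  simp only [mul_smul, rot_smul]
  funext l
  rcases l with j | j <;> simp only [rotV, Sum.elim_inl, Sum.elim_inr, tor_apply_inl, tor_apply_inr] <;>
    by_cases h0 : j = 0 <;>
    simp [rotV, h0, tor_apply_inl, tor_apply_inr, sub_eq_iff_eq_add, Ne.symm h] <;>
    (try (by_cases hi : i = -1 <;> simp_all <;> intro he <;> exact absurd he.symm hi))

/-! ### generation -/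

theorem conj_sh (g : Sp m F) (u v : Vec m F) (a : F) : g * sh u v a * g⁻¹ = sh (g • u) (g • v) a := by
  rw [sh, sh, ← smul_add, ← conj_tv, ← conj_tv, ← conj_tv]
  group

theorem sh_add {u v : Vec m F} (h : sympForm m F u v = 0) (a b : F) :
    sh u v (a + b) = sh u v a * sh u v b := by
  refine eq_of_smul_eq fun x => ?_
  have h' : sympForm m F v u = 0 := by rw [sympForm_swap, h, neg_zero]
  simp only [mul_smul, sh_smul h, sympForm_add_left, sympForm_smul_left, sympForm_self, h, h']
  module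

theorem sh_scale {u v : Vec m F} (h : sympForm m F u v = 0) (c d a : F) :
    sh (c • u) (d • v) a = sh u v (c * d * a) := by
  refine eq_of_smul_eq fun x => ?_
  have h' : sympForm m F (c • u) (d • v) = 0 := by
    simp [sympForm_smul_left, sympForm_smul_right, h]
  simp only [sh_smul h, sh_smul h', sympForm_smul_right]
  module

/-- the coordinate pairs that vanish -/
noncomputable def zeroPairs (x : Vec m F) : Finset (Fin m) :=
  open Classical in Finset.univ.filter fun i => x (Sum.inl i) = 0 ∧ x (Sum.inr i) = 0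

section

variable {P : Subgroup (Sp m F)} (hn : (rot : Sp m F) ∈ P)
  (hS : ∀ c, tv (eI 0) c ∈ P) (hx : sh (eI 0) (fI 1) (1 : F) ∈ P)

include hn in
theorem conj_tv_mem {w : Vec m F} (h : ∀ c, tv w c ∈ P) (c : F) :
    tv ((rot : Sp m F) • w) c ∈ P := by
  rw [← conj_tv]
  exact P.mul_mem (P.mul_mem hn (h c)) (P.inv_mem hn)

include hn hS in
theorem tv_std_mem (i : Fin m) : (∀ c, tv (eI i) c ∈ P) ∧ ∀ c, tv (fI i) c ∈ P := by
  have h1 : ∀ a : ℕ, a < m → ∀ c, tv (eI (Fin.ofNat m a)) c ∈ P := by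
    intro a
    induction a with
    | zero => intro _ c; simpa using hS c
    | succ a ih =>
      intro ha c
      have := conj_tv_mem hn (ih (by omega)) c
      have e : (Fin.ofNat m a) + 1 = Fin.ofNat m (a + 1) := by
        ext; simp [Fin.val_add]
      rw [rot_eI (by rw [e]; simp [Fin.ext_iff, Nat.mod_eq_of_lt ha]), e] at this
      exact this
  have hm : 0 < m := Nat.pos_of_ne_zero (NeZero.ne m)
  have hlast : (Fin.ofNat m (m - 1)) + 1 = (0 : Fin m) := by
    ext; simp [Fin.val_add, Nat.sub_add_cancel (Nat.one_le_iff_ne_zero.2 (NeZero.ne m))]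
  have h2 : ∀ a : ℕ, a < m → ∀ c, tv (fI (Fin.ofNat m a)) c ∈ P := by
    intro a
    induction a with
    | zero =>
      intro _ c
      have := conj_tv_mem hn (h1 (m - 1) (by omega)) c
      rw [rot_eI_last hlast] at this
      simpa using this
    | succ a ih =>
      intro ha c
      have := conj_tv_mem hn (ih (by omega)) c
      have e : (Fin.ofNat m a) + 1 = Fin.ofNat m (a + 1) := by
        ext; simp [Fin.val_add]
      rw [rot_fI (by rw [e]; simp [Fin.ext_iff, Nat.mod_eq_of_lt ha]), e] at this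
      exact this
  exact ⟨by simpa using h1 i.val i.isLt, by simpa using h2 i.val i.isLt⟩

include hn hS in
theorem normalize_pair (i : Fin m) (x : Vec m F)
    (hxi : ¬ (x (Sum.inl i) = 0 ∧ x (Sum.inr i) = 0)) :
    ∃ g ∈ P, (g • x) (Sum.inl i) = 1 ∧ (g • x) (Sum.inr i) = 0 ∧
      ∀ j, j ≠ i → (g • x) (Sum.inl j) = x (Sum.inl j) ∧ (g • x) (Sum.inr j) = x (Sum.inr j) := by
  obtain ⟨he, hf⟩ := tv_std_mem hn hS i
  have key : ∀ (y : Vec m F) (c : F),
      ((tv (eI i) c • y) (Sum.inl i) = y (Sum.inl i) + c * y (Sum.inr i) ∧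
        (tv (eI i) c • y) (Sum.inr i) = y (Sum.inr i) ∧ ∀ j, j ≠ i →
          (tv (eI i) c • y) (Sum.inl j) = y (Sum.inl j) ∧
          (tv (eI i) c • y) (Sum.inr j) = y (Sum.inr j)) ∧
      ((tv (fI i) c • y) (Sum.inl i) = y (Sum.inl i) ∧
        (tv (fI i) c • y) (Sum.inr i) = y (Sum.inr i) - c * y (Sum.inl i) ∧ ∀ j, j ≠ i →
          (tv (fI i) c • y) (Sum.inl j) = y (Sum.inl j) ∧
          (tv (fI i) c • y) (Sum.inr j) = y (Sum.inr j)) := by
    intro y c
    simp only [tv_smul, sympForm_eI_right, sympForm_fI_right]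
    refine ⟨⟨?_, ?_, fun j hj => ⟨?_, ?_⟩⟩, ⟨?_, ?_, fun j hj => ⟨?_, ?_⟩⟩⟩ <;>
      simp [eI, fI, *] <;> ring
  have main : ∀ y : Vec m F, y (Sum.inr i) ≠ 0 →
      ∃ g ∈ P, (g • y) (Sum.inl i) = 1 ∧ (g • y) (Sum.inr i) = 0 ∧
        ∀ j, j ≠ i → (g • y) (Sum.inl j) = y (Sum.inl j) ∧ (g • y) (Sum.inr j) = y (Sum.inr j) := by
    intro y hy
    set c := (1 - y (Sum.inl i)) / y (Sum.inr i)
    obtain ⟨⟨a1, a2, a3⟩, -⟩ := key y c
    obtain ⟨-, ⟨b1, b2, b3⟩⟩ := key (tv (eI i) c • y) (y (Sum.inr i))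
    have e1 : (tv (eI i) c • y) (Sum.inl i) = 1 := by
      rw [a1, div_mul_cancel₀ _ hy]; ring
    refine ⟨tv (fI i) (y (Sum.inr i)) * tv (eI i) c, P.mul_mem (hf _) (he _), ?_, ?_, fun j hj => ?_⟩
    · rw [mul_smul, b1, e1]
    · rw [mul_smul, b2, a2, e1]; ring
    · rw [mul_smul]; exact ⟨(b3 j hj).1.trans (a3 j hj).1, (b3 j hj).2.trans (a3 j hj).2⟩
  by_cases hb : x (Sum.inr i) = 0
  · have ha : x (Sum.inl i) ≠ 0 := fun ha => hxi ⟨ha, hb⟩
    obtain ⟨-, ⟨-, b2, b3⟩⟩ := key x 1
    obtain ⟨g, hg, g1, g2, g3⟩ := main (tv (fI i) (1 : F) • x) (by rw [b2, hb]; simpa using ha)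
    refine ⟨g * tv (fI i) (1 : F), P.mul_mem hg (hf _), ?_, ?_, fun j hj => ?_⟩
    · rw [mul_smul, g1]
    · rw [mul_smul, g2]
    · rw [mul_smul]; exact ⟨(g3 j hj).1.trans (b3 j hj).1, (g3 j hj).2.trans (b3 j hj).2⟩
  · exact main x hb

include hn hS in
theorem normalize_all (x : Vec m F) (h : zeroPairs x = ∅) :
    ∃ g ∈ P, g • x = Sum.elim (fun _ => 1) (fun _ => 0) := by
  classical
  have hnz : ∀ i, ¬ (x (Sum.inl i) = 0 ∧ x (Sum.inr i) = 0) := fun i hi => by
    have : i ∈ zeroPairs x := by simp [zeroPairs, hi.1, hi.2]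
    simp [h] at this
  have step : ∀ S : Finset (Fin m), ∃ g ∈ P,
      (∀ i ∈ S, (g • x) (Sum.inl i) = 1 ∧ (g • x) (Sum.inr i) = 0) ∧
      ∀ i ∉ S, (g • x) (Sum.inl i) = x (Sum.inl i) ∧ (g • x) (Sum.inr i) = x (Sum.inr i) := by
    intro S
    induction S using Finset.induction_on with
    | empty => exact ⟨1, P.one_mem, by simp, by simp⟩
    | insert a S ha ih =>
      obtain ⟨g, hg, h1, h2⟩ := ih
      obtain ⟨g', hg', k1, k2, k3⟩ := normalize_pair hn hS a (g • x) (by
        rw [(h2 a ha).1, (h2 a ha).2]; exact hnz a)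
      refine ⟨g' * g, P.mul_mem hg' hg, fun i hi => ?_, fun i hi => ?_⟩
      · rw [mul_smul]
        by_cases hia : i = a
        · subst hia; exact ⟨k1, k2⟩
        · obtain ⟨l1, l2⟩ := h1 i ((Finset.mem_insert.1 hi).resolve_left hia)
          exact ⟨(k3 i hia).1.trans l1, (k3 i hia).2.trans l2⟩
      · rw [Finset.mem_insert, not_or] at hi
        rw [mul_smul]
        exact ⟨(k3 i hi.1).1.trans (h2 i hi.2).1, (k3 i hi.1).2.trans (h2 i hi.2).2⟩
  obtain ⟨g, hg, h1, -⟩ := step Finset.univ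
  refine ⟨g, hg, funext fun j => ?_⟩
  rcases j with i | i
  · exact (h1 i (Finset.mem_univ i)).1
  · exact (h1 i (Finset.mem_univ i)).2

include hn hS hx in
theorem shears_mem (a : ℕ) (ha : a + 1 < m) :
    sh (eI (Fin.ofNat m a)) (fI (Fin.ofNat m (a + 1))) (1 : F) ∈ P ∧
    sh (fI (Fin.ofNat m a)) (eI (Fin.ofNat m (a + 1))) (1 : F) ∈ P := by
  induction a with
  | zero =>
    have ez : Fin.ofNat m 0 = (0 : Fin m) := Fin.ext (Nat.zero_mod m)
    have eo : Fin.ofNat m 1 = (1 : Fin m) := Fin.ext rfl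
    refine ⟨by rw [ez, zero_add, eo]; exact hx, ?_⟩
    -- conjugate by the Weyl elements of the two pairs
    have hw : ∀ i : Fin m, tv (eI i) (1 : F) * tv (fI i) 1 * tv (eI i) 1 ∈ P := fun i =>
      P.mul_mem (P.mul_mem ((tv_std_mem hn hS i).1 _) ((tv_std_mem hn hS i).2 _))
        ((tv_std_mem hn hS i).1 _)
    have h01 : (0 : Fin m) ≠ Fin.ofNat m 1 := by
      simp [Fin.ext_iff, Nat.mod_eq_of_lt (show 1 < m by omega)]
    set one := Fin.ofNat m 1 with hone
    set J := (tv (eI (0 : Fin m)) (1 : F) * tv (fI 0) 1 * tv (eI 0) 1) *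
      (tv (eI one) 1 * tv (fI one) 1 * tv (eI one) 1)
    have hJ : J ∈ P := P.mul_mem (hw _) (hw _)
    have e1 : J • (eI (0 : Fin m) : Vec m F) = -fI 0 := by
      simp only [J, mul_smul, tv_smul, sympForm_add_left, sympForm_smul_left, sympForm_self,
        sympForm_eI_eI, sympForm_fI_fI, sympForm_eI_fI, sympForm_fI_eI,
        sympForm_eI_fI_of_ne h01, sympForm_swap (fI (0 : Fin m)) (eI one),
        sympForm_eI_fI_of_ne h01.symm]
      module
    have e2 : J • (fI one : Vec m F) = eI one := by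
      simp only [J, mul_smul, tv_smul, sympForm_add_left, sympForm_smul_left, sympForm_self,
        sympForm_eI_eI, sympForm_fI_fI, sympForm_eI_fI, sympForm_fI_eI,
        sympForm_eI_fI_of_ne h01, sympForm_swap (fI one) (eI (0 : Fin m)),
        sympForm_eI_fI_of_ne h01.symm]
      module
    have hx' : sh (eI (0 : Fin m)) (fI one) (1 : F) ∈ P := by rw [eo]; exact hx
    have := P.mul_mem (P.mul_mem hJ hx') (P.inv_mem hJ)
    rw [conj_sh, e1, e2, show (-fI (0 : Fin m) : Vec m F) = (-1 : F) • fI 0 by simp,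
      show (eI one : Vec m F) = (1 : F) • eI one by simp, sh_scale (by
        rw [sympForm_swap, sympForm_eI_fI_of_ne h01.symm, neg_zero])] at this
    have h' := P.inv_mem this
    rw [inv_eq_of_mul_eq_one_right (b := sh (fI (0 : Fin m)) (eI one) (1 : F))] at h'
    · exact h'
    · rw [← sh_add (by rw [sympForm_swap, sympForm_eI_fI_of_ne h01.symm, neg_zero])]
      simp [sh]
  | succ a ih =>
    obtain ⟨i1, i2⟩ := ih (by omega)
    have e : ∀ b, b + 1 < m → (Fin.ofNat m b) + 1 = Fin.ofNat m (b + 1) ∧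
        (Fin.ofNat m b) + 1 ≠ 0 := fun b hb => by
      have e : (Fin.ofNat m b) + 1 = Fin.ofNat m (b + 1) := by
        ext; simp [Fin.val_add]
      exact ⟨e, by rw [e]; simp [Fin.ext_iff, Nat.mod_eq_of_lt hb]⟩
    obtain ⟨a1, a2⟩ := e a (by omega)
    obtain ⟨b1, b2⟩ := e (a + 1) (by omega)
    constructor
    · have := P.mul_mem (P.mul_mem hn i1) (P.inv_mem hn)
      rwa [conj_sh, rot_eI a2, rot_fI b2, a1, b1] at this
    · have := P.mul_mem (P.mul_mem hn i2) (P.inv_mem hn)
      rwa [conj_sh, rot_fI a2, rot_eI b2, a1, b1] at this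

include hn hS hx in
theorem reach (x : Vec m F) (hx0 : x ≠ 0) :
    ∃ g ∈ P, g • x = Sum.elim (fun _ => 1) (fun _ => 0) := by
  induction hN : (zeroPairs x).card using Nat.strong_induction_on generalizing x with
  | _ N ih =>
    classical
    by_cases hempty : zeroPairs x = ∅
    · exact normalize_all hn hS x hempty
    -- a zero pair next to a non-zero pair
    let Z : ℕ → Prop := fun a => x (Sum.inl (Fin.ofNat m a)) = 0 ∧ x (Sum.inr (Fin.ofNat m a)) = 0
    obtain ⟨j, hj⟩ := Finset.nonempty_iff_ne_empty.2 hempty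
    simp only [zeroPairs, Finset.mem_filter, Finset.mem_univ, true_and] at hj
    obtain ⟨i, hi⟩ : ∃ i : Fin m, ¬ (x (Sum.inl i) = 0 ∧ x (Sum.inr i) = 0) := by
      by_contra! hne
      exact hx0 (funext fun l => by rcases l with l | l; exacts [(hne l).1, (hne l).2])
    have hij : i ≠ j := fun e => hi (e ▸ hj)
    obtain ⟨a, ha, hcase⟩ : ∃ a, a + 1 < m ∧ ((¬ Z a ∧ Z (a + 1)) ∨ (Z a ∧ ¬ Z (a + 1))) := by
      by_contra! hne
      have key : ∀ a, a < m → (Z a ↔ Z 0) := by
        intro a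
        induction a with
        | zero => simp
        | succ a iha =>
          intro h
          obtain ⟨p, q⟩ := hne a h
          rw [← iha (by omega)]
          constructor
          · intro h1; by_contra h2; exact p h2 h1
          · exact q
      have := (key j.val j.isLt).1 (by simpa [Z] using hj)
      exact hi (by simpa [Z] using (key i.val i.isLt).2 this)
    obtain ⟨s1, s2⟩ := shears_mem hn hS hx a ha
    set p := Fin.ofNat m a with hp
    set p' := Fin.ofNat m (a + 1) with hp'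
    have hpp : p ≠ p' := by
      simp [hp, hp', Fin.ext_iff, Nat.mod_eq_of_lt ha, Nat.mod_eq_of_lt (show a < m by omega)]
    have fin : ∀ (g : Sp m F), g ∈ P → ∀ q : Fin m, q ∈ zeroPairs x →
        ¬ ((g • x) (Sum.inl q) = 0 ∧ (g • x) (Sum.inr q) = 0) →
        (∀ l, ¬ (x (Sum.inl l) = 0 ∧ x (Sum.inr l) = 0) →
          ¬ ((g • x) (Sum.inl l) = 0 ∧ (g • x) (Sum.inr l) = 0)) →
        ∃ g' ∈ P, g' • x = Sum.elim (fun _ => 1) (fun _ => 0) := by
      intro g hg q hq hq' hl
      have hlt : (zeroPairs (g • x)).card < N := by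
        rw [← hN]
        refine Finset.card_lt_card (Finset.ssubset_iff_of_subset (fun l hl' => ?_) |>.2 ⟨q, hq, ?_⟩)
        · simp only [zeroPairs, Finset.mem_filter, Finset.mem_univ, true_and] at hl' ⊢
          by_contra hne; exact hl l hne hl'
        · simp only [zeroPairs, Finset.mem_filter, Finset.mem_univ, true_and]; exact hq'
      obtain ⟨g', hg', e⟩ := ih _ hlt (g • x) (fun e => hx0 ((smul_eq_zero_iff_eq g).1 e)) rfl
      exact ⟨g' * g, P.mul_mem hg' hg, by rw [mul_smul, e]⟩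
    rcases hcase with ⟨hna, hza⟩ | ⟨hza, hna⟩
    · -- the pair `p` is non-zero, `p'` is zero
      obtain ⟨g, hg, g1, g2, g3⟩ := normalize_pair hn hS p x hna
      have hz1 : x (Sum.inl p') = 0 := hza.1
      have hz2 : x (Sum.inr p') = 0 := hza.2
      refine fin _ (P.mul_mem s2 hg) p' (Finset.mem_filter.2 ⟨Finset.mem_univ _, hza⟩) ?_ fun l hl => ?_
      · rw [mul_smul, sh_smul (by rw [sympForm_swap, sympForm_eI_fI_of_ne hpp.symm, neg_zero])]
        simp only [Pi.add_apply, Pi.smul_apply, smul_eq_mul, sympForm_eI_right, sympForm_fI_right]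
        simp [eI, fI, g1, g2, hpp, hpp.symm,
          (g3 p' hpp.symm).1, (g3 p' hpp.symm).2, hz1, hz2]
      · rw [mul_smul, sh_smul (by rw [sympForm_swap, sympForm_eI_fI_of_ne hpp.symm, neg_zero])]
        by_cases hlp : l = p
        · subst hlp
          simp only [Pi.add_apply, Pi.smul_apply, smul_eq_mul, sympForm_eI_right, sympForm_fI_right]
          simp [eI, fI, g1, g2, hpp,
            (g3 p' hpp.symm).2, hza.2]
        · have hlp' : l ≠ p' := fun e => hl (e ▸ hza)
          simp only [Pi.add_apply, Pi.smul_apply, smul_eq_mul, sympForm_eI_right, sympForm_fI_right]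
          simpa [eI, fI, hlp, hlp', (g3 l hlp).1, (g3 l hlp).2] using hl
    · -- the pair `p` is zero, `p'` is non-zero
      obtain ⟨g, hg, g1, g2, g3⟩ := normalize_pair hn hS p' x hna
      have hz1 : x (Sum.inl p) = 0 := hza.1
      have hz2 : x (Sum.inr p) = 0 := hza.2
      refine fin _ (P.mul_mem s1 hg) p (Finset.mem_filter.2 ⟨Finset.mem_univ _, hza⟩) ?_ fun l hl => ?_
      · rw [mul_smul, sh_smul (sympForm_eI_fI_of_ne hpp)]
        simp only [Pi.add_apply, Pi.smul_apply, smul_eq_mul, sympForm_eI_right, sympForm_fI_right]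
        simp [eI, fI, g1, g2, hpp, hpp.symm,
          (g3 p hpp).1, (g3 p hpp).2, hz1, hz2]
      · rw [mul_smul, sh_smul (sympForm_eI_fI_of_ne hpp)]
        by_cases hlp : l = p'
        · subst hlp
          simp only [Pi.add_apply, Pi.smul_apply, smul_eq_mul, sympForm_eI_right, sympForm_fI_right]
          simp [eI, fI, g1, g2, hpp.symm,
            (g3 p hpp).2, hza.2]
        · have hlp' : l ≠ p := fun e => hl (e ▸ hza)
          simp only [Pi.add_apply, Pi.smul_apply, smul_eq_mul, sympForm_eI_right, sympForm_fI_right]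
          simpa [eI, fI, hlp, hlp', (g3 l hlp).1, (g3 l hlp).2] using hl

include hn hS hx in
theorem eq_top : P = ⊤ := by
  rw [eq_top_iff, ← closure_transvections, Subgroup.closure_le]
  rintro t ⟨w, c, ht⟩
  have ht' : t = tv w c := Subtype.ext ht
  subst ht'
  by_cases hw : w = 0
  · rw [hw, show tv (0 : Vec m F) c = 1 from eq_of_smul_eq fun x => by simp [tv_smul]]
    exact P.one_mem
  obtain ⟨g, hg, eg⟩ := reach hn hS hx w hw
  obtain ⟨k, hk, ek⟩ := reach hn hS hx (eI 0) (eI_ne_zero 0)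
  have e : w = (g⁻¹ * k) • (eI 0 : Vec m F) := by rw [mul_smul, ek, eq_inv_smul_iff, eg]
  rw [e, ← conj_tv]
  exact P.mul_mem (P.mul_mem (P.mul_mem (P.inv_mem hg) hk) (hS c))
    (P.inv_mem (P.mul_mem (P.inv_mem hg) hk))

end

variable [Fintype F]

theorem addClosure_squares : AddSubgroup.closure (Set.range fun t : F => t ^ 2) = ⊤ := by
  by_cases h2 : (2 : F) = 0
  · haveI : CharP F 2 := CharTwo.of_one_ne_zero_of_two_eq_zero one_ne_zero h2
    haveI : Fact (Nat.Prime 2) := ⟨Nat.prime_two⟩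
    have h : Function.Surjective fun t : F => t ^ 2 :=
      Finite.surjective_of_injective (frobenius_inj F 2)
    exact top_le_iff.1 fun t _ => AddSubgroup.subset_closure (h t)
  · refine top_le_iff.1 fun t _ => ?_
    have e : t = (t / 2 + 1) ^ 2 - (t / 2) ^ 2 - (1 : F) ^ 2 := by field_simp; ring
    rw [e]
    exact sub_mem (sub_mem (AddSubgroup.subset_closure ⟨_, rfl⟩)
      (AddSubgroup.subset_closure ⟨_, rfl⟩)) (AddSubgroup.subset_closure ⟨_, rfl⟩)

theorem exists_two_large (hm : 2 ≤ m) (hq : 2 < Fintype.card F) :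
    ∃ a b : Sp m F, Subgroup.closure ({a, b} : Set (Sp m F)) = ⊤ := by
  classical
  obtain ⟨k, hk⟩ := IsCyclic.exists_generator (α := Fˣ)
  have hk1 := gen_ne_one hq hk
  have h1v : ((1 : Fin m) : ℕ) = 1 := by
    rw [Fin.val_one', Nat.mod_eq_of_lt (by omega)]
  have h01 : (0 : Fin m) ≠ 1 := fun e => by
    have := congrArg Fin.val e; rw [h1v, Fin.val_zero] at this; omega
  set x : F → Sp m F := fun t => sh (eI 0) (fI 1) t with hxdef
  have hperp : sympForm m F (eI (0 : Fin m)) (fI 1) = 0 := sympForm_eI_fI_of_ne h01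
  set h := tor (0 : Fin m) k with hh
  set z := tv (eI (1 : Fin m)) (1 : F) with hz
  refine ⟨h * z, x 1 * rot, ?_⟩
  set P := Subgroup.closure ({h * z, x 1 * rot} : Set (Sp m F))
  have haP : h * z ∈ P := Subgroup.subset_closure (by simp)
  have hbP : x 1 * rot ∈ P := Subgroup.subset_closure (by simp)
  have hcomm : Commute h z := by
    rw [Commute, SemiconjBy, ← mul_inv_eq_iff_eq_mul, hz, conj_tv, hh, tor_eI, if_neg h01.symm,
      one_smul]
  have hzP : z ∈ P := by
    have e : (h * z) ^ (Fintype.card F - 1) = tv (eI (1 : Fin m)) (-1 : F) := by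
      have hkq : k ^ (Fintype.card F - 1) = 1 := by
        rw [← Fintype.card_units, pow_card_eq_one]
      have hz' : ∀ N : ℕ, z ^ N = tv (eI (1 : Fin m)) (N : F) := by
        intro N
        induction N with
        | zero => simp
        | succ N ih => rw [pow_succ, ih, hz, tv_mul_tv, Nat.cast_succ]
      rw [hcomm.mul_pow, hz', hh, tor_pow, hkq, ← pow_zero k, ← tor_pow, pow_zero, one_mul,
        Nat.cast_sub Fintype.card_pos, Nat.cast_card_eq_zero, Nat.cast_one, zero_sub]
    have := P.pow_mem haP (Fintype.card F - 1)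
    rw [e, ← tv_inv] at this
    exact inv_mem_iff.1 this
  have hhP : h ∈ P := by
    have := P.mul_mem haP (P.inv_mem hzP)
    rwa [mul_inv_cancel_right] at this
  have h10 : (0 : Fin m) + 1 ≠ 0 := by simpa using h01.symm
  obtain ⟨hX, hn⟩ := steinberg_step (x := x) (fun a b => sh_add hperp a b) (P := P)
    (h := h) (h' := tor 1 k) (n := rot) (c := (k : F)) (c' := ((k⁻¹ : Fˣ) : F))
    (by rw [hh, rot_conj_tor h10, zero_add])
    (by
      refine eq_of_smul_eq fun v => ?_
      funext l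
      rcases l with l | l
      · simp only [hh, mul_smul, tor_apply_inl]; ring
      · simp only [hh, mul_smul, tor_apply_inr]; ring)
    (fun t => by
      simp only [hxdef, hh]
      rw [conj_sh, tor_eI, tor_fI, if_pos rfl, if_neg h01.symm, sh_scale hperp, mul_one])
    (fun t => by
      simp only [hxdef]
      rw [conj_sh, tor_eI, tor_fI, if_neg h01, if_pos rfl, sh_scale hperp, one_mul])
    hk1 (by simpa using hk1) (Units.ne_zero _) (subringClosure_gen hk) hhP hbP
  have hz0 : tv (eI (0 : Fin m)) (1 : F) ∈ P := by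
    have := P.mul_mem (P.mul_mem (P.inv_mem hn) hzP) (P.inv_mem (P.inv_mem hn))
    rw [hz, conj_tv] at this
    have e : (rot : Sp m F)⁻¹ • (eI (1 : Fin m) : Vec m F) = eI 0 := by
      rw [inv_smul_eq_iff, rot_eI h10, zero_add]
    rwa [e] at this
  refine eq_top hn (fun c => ?_) (hX 1)
  let S : AddSubgroup F :=
    { carrier := {t | tv (eI (0 : Fin m)) t ∈ P}
      zero_mem' := by show tv _ _ ∈ P; rw [tv_zero]; exact P.one_mem
      add_mem' := fun {a b} ha hb => by show tv _ _ ∈ P; rw [← tv_mul_tv]; exact P.mul_mem ha hb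
      neg_mem' := fun {a} ha => by show tv _ _ ∈ P; rw [← tv_inv]; exact P.inv_mem ha }
  suffices S = ⊤ by exact (show c ∈ S by rw [this]; trivial)
  rw [eq_top_iff, ← addClosure_squares, AddSubgroup.closure_le]
  rintro _ ⟨t, rfl⟩
  by_cases ht : t = 0
  · simp [ht]
  obtain ⟨j, hj⟩ := Subgroup.mem_zpowers_iff.1 (hk (Units.mk0 t ht))
  obtain ⟨N, hN⟩ := Submonoid.mem_powers_iff _ _ |>.1
    (mem_powers_iff_mem_zpowers.2 (hk (Units.mk0 t ht)))
  show tv (eI (0 : Fin m)) (t ^ 2) ∈ P
  have := P.mul_mem (P.mul_mem (P.pow_mem hhP N) hz0) (P.inv_mem (P.pow_mem hhP N))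
  rw [conj_tv, hh, tor_pow, tor_eI, if_pos rfl, tv_smul_vec, mul_one, hN, Units.val_mk0] at this
  exact this

theorem exists_two_card_two (hm : 3 ≤ m) (hq : Fintype.card F = 2) :
    ∃ a b : Sp m F, Subgroup.closure ({a, b} : Set (Sp m F)) = ⊤ := by
  classical
  have h20 : (2 : F) = 0 := by
    have := Nat.cast_card_eq_zero F; rwa [hq, Nat.cast_ofNat] at this
  have hneg : ∀ t : F, -t = t := fun t => by linear_combination (-t) * h20
  have hF : ∀ t : F, t = 0 ∨ t = 1 := fun t => by
    by_contra! h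
    have := Fintype.two_lt_card_iff.2 ⟨0, 1, t, zero_ne_one, h.1.symm, h.2.symm⟩
    omega
  have hv : ∀ a < m, ((Fin.ofNat m a : Fin m) : ℕ) = a := fun a ha => by
    simp [Nat.mod_eq_of_lt ha]
  set o := Fin.ofNat m 1
  set w := Fin.ofNat m 2
  have h01 : (0 : Fin m) ≠ o := fun e => by
    have := congrArg Fin.val e; rw [hv 1 (by omega), Fin.val_zero] at this; omega
  have h02 : (0 : Fin m) ≠ w := fun e => by
    have := congrArg Fin.val e; rw [hv 2 (by omega), Fin.val_zero] at this; omega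
  have h12 : o ≠ w := fun e => by
    have := congrArg Fin.val e; rw [hv 1 (by omega), hv 2 (by omega)] at this; omega
  have hA : sympForm m F (eI (0 : Fin m)) (fI o) = 0 := sympForm_eI_fI_of_ne h01
  have hB : sympForm m F (fI (0 : Fin m)) (eI o) = 0 := by
    rw [sympForm_swap, sympForm_eI_fI_of_ne h01.symm, neg_zero]
  set y : Sp m F := sh (eI 0) (fI o) 1 * sh (fI 0) (eI o) 1 with hy
  set z : Sp m F := tv (eI w) 1 with hz
  have hsum : (1 : F) + 1 = 0 := by rw [one_add_one_eq_two, h20]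
  haveI : CharP F 2 := CharTwo.of_one_ne_zero_of_two_eq_zero one_ne_zero h20
  have e13 : (13 : F) = 1 := by linear_combination 6 * h20
  have e5 : (5 : F) = 1 := by linear_combination 2 * h20
  have e8 : (8 : F) = 0 := by linear_combination 4 * h20
  have hy3 : y * y * y = 1 := by
    refine eq_of_smul_eq fun v => ?_
    funext l
    simp only [hy, mul_smul, one_smul, sh_smul hA, sh_smul hB, Pi.add_apply, Pi.smul_apply,
      smul_eq_mul, sympForm_eI_right, sympForm_fI_right]
    rcases l with l | l <;>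
      simp [eI, fI, Pi.single_apply, hneg, h01, h01.symm] <;>
      by_cases l0 : l = 0 <;> by_cases l1 : l = o <;>
      (try exact absurd (l0.symm.trans l1) h01) <;>
      (try simp [l0, l1, h01, h01.symm, hneg]) <;> (try ring_nf) <;> (try simp [e13, e5, e8])
  refine ⟨rot, z * y, ?_⟩
  set P := Subgroup.closure ({rot, z * y} : Set (Sp m F))
  have hn : (rot : Sp m F) ∈ P := Subgroup.subset_closure (by simp)
  have hb : z * y ∈ P := Subgroup.subset_closure (by simp)
  have hcy : y * z * y⁻¹ = z := by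
    rw [hz, conj_tv]
    congr 1
    rw [hy, mul_smul, sh_smul hB, sh_smul hA]
    simp only [sympForm_eI_right, sympForm_fI_right]
    simp [eI, fI, h02, h12, h02.symm, h12.symm]
  have hyz : y * z = z * y := mul_inv_eq_iff_eq_mul.1 hcy
  have hyP : y ∈ P := by
    have : (z * y) * (z * y) = y⁻¹ := by
      rw [show z * y * (z * y) = z * (y * z) * y by group, hyz,
        show z * (z * y) * y = (z * z) * (y * y) by group, hz, tv_mul_tv, hsum, tv_zero, one_mul]
      exact eq_inv_of_mul_eq_one_left hy3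
    exact inv_mem_iff.1 (this ▸ P.mul_mem hb hb)
  have hzP : z ∈ P := by
    have := P.mul_mem hb (P.inv_mem hyP)
    rwa [mul_inv_cancel_right] at this
  have r1 : (rot : Sp m F) • eI (0 : Fin m) = (eI o : Vec m F) := by
    have eo : o = 1 := Fin.ext rfl
    rw [rot_eI (by rw [zero_add, ← eo]; exact h01.symm), zero_add, eo]
  have r2 : (rot : Sp m F) • eI o = (eI w : Vec m F) := by
    have e : o + 1 = w := by
      ext; simp [o, w, Fin.val_add]
    rw [rot_eI (by rw [e]; exact h02.symm), e]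
  have hS : ∀ c, tv (eI (0 : Fin m)) c ∈ P := by
    intro c
    rcases hF c with rfl | rfl
    · rw [tv_zero]; exact P.one_mem
    · have h1 := P.mul_mem (P.mul_mem (P.inv_mem hn) hzP) (P.inv_mem (P.inv_mem hn))
      rw [hz, conj_tv, show (rot : Sp m F)⁻¹ • (eI w : Vec m F) = eI o from
        inv_smul_eq_iff.2 r2.symm] at h1
      have h2 := P.mul_mem (P.mul_mem (P.inv_mem hn) h1) (P.inv_mem (P.inv_mem hn))
      rwa [conj_tv, show (rot : Sp m F)⁻¹ • (eI o : Vec m F) = eI 0 from
        inv_smul_eq_iff.2 r1.symm] at h2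
  refine eq_top hn hS ?_
  -- `y` moves `e₁` to `e₀ + e₁`, which yields the shear
  have ye : y • (eI o : Vec m F) = eI 0 + eI o := by
    rw [hy, mul_smul, sh_smul hB, sh_smul hA]
    simp only [sympForm_eI_right, sympForm_fI_right]
    simp [eI, fI, h01, h01.symm, hneg]
    abel
  have h1 : tv (eI 0 + eI o) (1 : F) ∈ P := by
    rw [← ye, ← conj_tv]
    exact P.mul_mem (P.mul_mem hyP ((tv_std_mem hn hS o).1 1)) (P.inv_mem hyP)
  have h2 : sh (eI (0 : Fin m)) (eI o) (1 : F) ∈ P := by
    rw [sh, hneg]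
    exact P.mul_mem (P.mul_mem h1 (hS 1)) ((tv_std_mem hn hS o).1 1)
  set J := tv (eI o) (1 : F) * tv (fI o) 1 * tv (eI o) 1
  have hJ : J ∈ P := P.mul_mem (P.mul_mem ((tv_std_mem hn hS o).1 _) ((tv_std_mem hn hS o).2 _))
    ((tv_std_mem hn hS o).1 _)
  have j1 : J • (eI (0 : Fin m) : Vec m F) = eI 0 := by
    simp only [J, mul_smul]
    rw [tv_smul_of_orth _ (sympForm_eI_eI _ _), tv_smul_of_orth _ hA,
      tv_smul_of_orth _ (sympForm_eI_eI _ _)]
  have j2 : J • (eI o : Vec m F) = fI o := by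
    simp only [J, mul_smul, tv_smul, sympForm_add_left, sympForm_smul_left, sympForm_eI_eI,
      sympForm_eI_fI, sympForm_fI_eI, hneg]
    have h' : ∀ v : Vec m F, v + v = 0 := fun v => by
      funext l; simpa [← two_mul] using Or.inl h20
    funext l; simp [hneg]; linear_combination (eI o l : F) * h20
  have h3 := P.mul_mem (P.mul_mem hJ h2) (P.inv_mem hJ)
  rw [conj_sh, j1, j2] at h3
  have e : o = 1 := by ext; simp [o]
  rwa [e] at h3

end Cfsg.Agent.ChevGen.SpGen
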