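/-
Certificate tables for two generators of the seven Chevalley data.
-/
import Cfsg.Agent.Lib.ChevGen.TwoGen

set_option autoImplicit false

namespace Cfsg.Agent.ChevGen

/-- steps for G2a -/
def cfgG2a : Cfg where
  s := 2
  l := 3
  β := 1
  m := 6
  E := [1]
  C := [1, 3]
  M := []
  steps :=
    [(2, 3), (2, 7), (2, 4), (3, 9), (7, 8), (9, 4)]

/-- steps for G2b -/
def cfgG2b : Cfg where
  s := 2
  l := 1
  β := 3
  m := 6
  E := [1, 3]
  C := [1]
  M := [3]
  steps :=
    [(0, 6), (0, 9)]

/-- steps for B2 -/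
def cfgB2 : Cfg where
  s := 1
  l := 0
  β := 3
  m := 4
  E := [1, 2]
  C := [1]
  M := []
  steps :=
    [(1, 7), (1, 4), (5, 4), (6, 0)]

/-- steps for D4 -/
def cfgD4 : Cfg where
  s := 1
  l := 10
  β := 0
  m := 6
  E := [1]
  C := [1]
  M := []
  steps :=
    [(1, 18), (1, 9), (1, 21), (1, 13), (18, 14), (18, 3), (18, 15), (18, 2), (14, 22), (14, 7),
     (14, 13), (22, 5), (22, 11), (22, 3), (22, 2), (5, 9), (5, 20), (5, 7)]

/-- steps for F4 -/
def cfgF4 : Cfg where
  s := 3
  l := 0
  β := 6
  m := 12
  E := [1, 2]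
  C := [1]
  M := []
  steps :=
    [(3, 37), (3, 40), (3, 41), (3, 47), (7, 44), (7, 39), (7, 45), (7, 32), (8, 40), (8, 29),
     (8, 46), (8, 32), (8, 26), (18, 39), (18, 13), (18, 47), (18, 26), (34, 29), (34, 10), (34, 6),
     (34, 32), (37, 13), (37, 6), (37, 2), (37, 26), (44, 10), (44, 6), (44, 2), (44, 1), (40, 2),
     (40, 1), (39, 0), (39, 1), (29, 15), (13, 21), (10, 41)]

/-- steps for E6 -/
def cfgE6 : Cfg where
  s := 0
  l := 2
  β := 7
  m := 12
  E := [1]
  C := [1]
  M := []
  steps :=
    [(0, 67), (0, 70), (0, 62), (0, 68), (0, 53), (0, 66), (1, 71), (1, 55), (1, 68), (1, 53),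
     (1, 66), (1, 45), (16, 70), (16, 41), (16, 53), (16, 66), (16, 14), (30, 55), (30, 10), (30, 66),
     (30, 45), (61, 41), (61, 4), (61, 45), (61, 14), (67, 10), (67, 21), (67, 14), (71, 4), (71, 21),
     (71, 7), (70, 7), (70, 2), (55, 17), (55, 2), (41, 31), (17, 68), (17, 47), (17, 53), (17, 52),
     (17, 45), (17, 39), (17, 14), (17, 36), (23, 11), (23, 47), (23, 53), (23, 66), (23, 14), (8, 66),
     (8, 52), (21, 47), (21, 52), (46, 43), (46, 60), (46, 9), (46, 40), (58, 48), (51, 60), (65, 15)]

/-- steps for E7 -/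
def cfgE7 : Cfg where
  s := 0
  l := 3
  β := 10
  m := 18
  E := [1]
  C := [1]
  M := []
  steps :=
    [(0, 109), (0, 119), (0, 124), (0, 123), (0, 100), (0, 110), (0, 120), (0, 115), (0, 122), (0, 117),
     (1, 119), (1, 125), (1, 123), (1, 118), (1, 110), (1, 120), (1, 115), (1, 122), (1, 117), (1, 91),
     (2, 125), (2, 124), (2, 118), (2, 92), (2, 120), (2, 115), (2, 122), (2, 117), (2, 91), (2, 71),
     (7, 124), (7, 123), (7, 92), (7, 72), (7, 115), (7, 122), (7, 117), (7, 71), (7, 68), (33, 123),
     (33, 118), (33, 72), (33, 26), (33, 31), (33, 25), (33, 122), (33, 117), (33, 91), (33, 68), (53, 118),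
     (53, 92), (53, 26), (53, 16), (53, 42), (53, 117), (53, 91), (53, 71), (99, 92), (99, 72), (99, 16),
     (99, 6), (99, 22), (99, 91), (99, 71), (99, 68), (109, 72), (109, 26), (109, 6), (109, 31), (109, 25),
     (109, 13), (109, 71), (109, 68), (119, 26), (119, 16), (119, 25), (119, 42), (119, 15), (119, 4), (119, 68),
     (125, 16), (125, 6), (125, 25), (125, 15), (125, 22), (125, 5), (125, 9), (124, 6), (124, 15), (124, 5),
     (124, 13), (124, 10), (124, 35), (123, 5), (123, 10), (123, 4), (123, 3), (118, 8), (118, 10), (118, 3),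
     (118, 9), (92, 34), (92, 35), (72, 17), (72, 54), (26, 48), (16, 94), (6, 83)]

/-- steps for E8 -/
def cfgE8 : Cfg where
  s := 0
  l := 11
  β := 2
  m := 30
  E := [1]
  C := [1]
  M := []
  steps :=
    [(0, 235), (0, 236), (0, 237), (0, 238), (0, 224), (0, 218), (0, 203), (0, 161), (0, 228), (0, 220),
     (0, 230), (0, 222), (0, 216), (0, 201), (0, 183), (0, 140), (15, 236), (15, 237), (15, 238), (15, 239),
     (15, 218), (15, 203), (15, 161), (15, 134), (15, 220), (15, 214), (15, 222), (15, 216), (15, 201), (15, 159),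
     (15, 140), (15, 76), (21, 237), (21, 238), (21, 239), (21, 224), (21, 203), (21, 161), (21, 134), (21, 230),
     (21, 216), (21, 201), (21, 183), (21, 76), (21, 92), (36, 238), (36, 239), (36, 224), (36, 218), (36, 161),
     (36, 134), (36, 70), (36, 222), (36, 201), (36, 159), (36, 140), (36, 92), (36, 65), (78, 239), (78, 224),
     (78, 218), (78, 203), (78, 134), (78, 55), (78, 216), (78, 183), (78, 76), (78, 65), (78, 51), (105, 224),
     (105, 218), (105, 203), (105, 161), (105, 70), (105, 35), (105, 201), (105, 140), (105, 51), (105, 32), (169, 218),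
     (169, 203), (169, 161), (169, 134), (169, 55), (169, 13), (169, 33), (169, 11), (169, 159), (169, 76), (169, 32),
     (184, 203), (184, 161), (184, 134), (184, 70), (184, 35), (184, 5), (184, 33), (184, 12), (184, 45), (184, 183),
     (184, 92), (204, 161), (204, 134), (204, 70), (204, 55), (204, 13), (204, 4), (204, 45), (204, 20), (204, 29),
     (204, 140), (204, 65), (226, 134), (226, 70), (226, 55), (226, 35), (226, 5), (226, 29), (226, 76), (226, 51),
     (234, 70), (234, 55), (234, 35), (234, 13), (234, 4), (234, 10), (234, 92), (234, 32), (235, 55), (235, 35),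
     (235, 13), (235, 5), (235, 3), (235, 33), (235, 12), (235, 18), (235, 11), (235, 65), (236, 35), (236, 13),
     (236, 5), (236, 4), (236, 2), (236, 12), (236, 19), (236, 45), (236, 20), (236, 24), (236, 51), (237, 13),
     (237, 5), (237, 4), (237, 3), (237, 1), (237, 12), (237, 6), (237, 20), (237, 25), (237, 29), (237, 39),
     (237, 32), (238, 5), (238, 4), (238, 3), (238, 2), (238, 6), (238, 20), (238, 7), (238, 26), (239, 4),
     (239, 3), (239, 2), (239, 1), (239, 6), (239, 7), (239, 14), (239, 40), (224, 3), (224, 2), (224, 1),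
     (224, 7), (224, 14), (224, 8), (218, 2), (218, 1), (218, 14), (218, 8), (218, 16), (203, 1), (203, 8),
     (203, 16), (203, 22), (161, 16), (161, 22), (161, 37), (134, 79), (134, 22), (134, 37), (70, 79), (70, 106),
     (70, 37), (55, 110), (55, 106), (35, 110), (35, 170), (13, 170), (13, 185), (5, 185), (4, 205), (3, 227)]

/-- steps for E6 over two elements -/
def orbitStepsE6Two : List (ℕ × ℕ) :=
    [(2, 62), (2, 68), (2, 66), (2, 45), (17, 68), (17, 53), (17, 45), (17, 14), (17, 34), (17, 9),
     (31, 53), (31, 66), (31, 14), (31, 21), (31, 29), (31, 35), (31, 3), (33, 66), (33, 45), (33, 21),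
     (33, 7), (33, 24), (33, 63), (62, 45), (62, 14), (62, 7), (62, 12), (62, 43), (68, 14), (68, 21),
     (68, 29), (68, 0), (68, 19), (68, 48), (53, 21), (53, 7), (53, 24), (53, 0), (53, 27), (53, 1),
     (53, 32), (53, 60), (66, 7), (66, 9), (66, 16), (66, 12), (66, 1), (66, 22), (66, 15), (45, 3),
     (45, 27), (45, 30), (45, 19), (45, 46), (14, 18), (14, 32), (14, 58), (21, 34), (21, 51), (7, 35)]

/-- steps for E7 over two elements -/
def orbitStepsE7Two : List (ℕ × ℕ) :=
    [(3, 100), (3, 120), (3, 91), (3, 68), (8, 110), (8, 115), (8, 71), (8, 25), (34, 120), (34, 122),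
     (34, 68), (34, 15), (54, 115), (54, 117), (54, 25), (54, 5), (57, 122), (57, 91), (57, 15), (57, 10),
     (100, 117), (100, 71), (100, 5), (100, 24), (100, 6), (110, 91), (110, 68), (110, 10), (110, 24), (110, 6),
     (110, 14), (110, 0), (110, 37), (120, 71), (120, 25), (120, 6), (120, 14), (120, 0), (120, 38), (120, 1),
     (120, 18), (115, 68), (115, 15), (115, 6), (115, 0), (115, 38), (115, 1), (115, 2), (115, 37), (115, 63),
     (115, 49), (122, 25), (122, 5), (122, 0), (122, 1), (122, 19), (122, 2), (122, 7), (122, 18), (122, 23),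
     (122, 43), (117, 15), (117, 10), (117, 33), (117, 1), (117, 11), (117, 7), (117, 37), (117, 49), (117, 51),
     (117, 78), (91, 5), (91, 53), (91, 2), (91, 36), (91, 45), (91, 18), (91, 94), (91, 43), (71, 10),
     (71, 99), (71, 7), (71, 37), (71, 55), (71, 28), (71, 49), (71, 83), (71, 78), (68, 18), (68, 43),
     (68, 103), (25, 49), (25, 78), (25, 112), (15, 43), (15, 95), (15, 121), (5, 78), (5, 84), (10, 95),
     (10, 104), (3, 84), (3, 113), (8, 104), (8, 88), (34, 107), (54, 76), (57, 82)]

/-- steps for E8 over two elements -/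
def orbitStepsE8Two : List (ℕ × ℕ) :=
    [(0, 235), (0, 236), (0, 237), (0, 238), (0, 224), (0, 218), (0, 203), (0, 161), (15, 236), (15, 237),
     (15, 238), (15, 239), (15, 218), (15, 203), (15, 161), (15, 134), (21, 237), (21, 238), (21, 239), (21, 224),
     (21, 203), (21, 161), (21, 134), (21, 70), (36, 238), (36, 239), (36, 224), (36, 218), (36, 161), (36, 134),
     (36, 70), (36, 55), (78, 239), (78, 224), (78, 218), (78, 203), (78, 134), (78, 70), (78, 55), (78, 35),
     (105, 224), (105, 218), (105, 203), (105, 161), (105, 70), (105, 55), (105, 35), (105, 13), (169, 218), (169, 203),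
     (169, 161), (169, 134), (169, 55), (169, 35), (169, 13), (169, 5), (169, 52), (169, 33), (169, 12), (184, 203),
     (184, 161), (184, 134), (184, 70), (184, 35), (184, 13), (184, 5), (184, 4), (184, 33), (184, 12), (184, 87),
     (184, 45), (184, 20), (204, 161), (204, 134), (204, 70), (204, 55), (204, 13), (204, 5), (204, 4), (204, 3),
     (204, 12), (204, 45), (204, 20), (204, 61), (204, 29), (204, 6), (226, 134), (226, 70), (226, 55), (226, 35),
     (226, 5), (226, 4), (226, 2), (226, 20), (226, 29), (226, 48), (234, 70), (234, 55), (234, 35), (234, 13),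
     (234, 4), (234, 3), (234, 1), (234, 6), (234, 10), (234, 30), (235, 55), (235, 35), (235, 13), (235, 5),
     (235, 3), (235, 2), (235, 52), (235, 33), (235, 12), (235, 7), (235, 18), (235, 43), (236, 35), (236, 13),
     (236, 5), (236, 4), (236, 2), (236, 1), (236, 12), (236, 87), (236, 45), (236, 20), (236, 14), (236, 24),
     (236, 83), (237, 13), (237, 5), (237, 4), (237, 3), (237, 1), (237, 12), (237, 20), (237, 61), (237, 29),
     (237, 6), (237, 8), (237, 39), (237, 58), (238, 5), (238, 4), (238, 3), (238, 2), (238, 20), (238, 6),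
     (238, 48), (238, 7), (238, 16), (238, 26), (239, 4), (239, 3), (239, 2), (239, 1), (239, 6), (239, 7),
     (239, 30), (239, 14), (239, 22), (239, 40), (224, 3), (224, 2), (224, 1), (224, 7), (224, 14), (224, 8),
     (224, 37), (218, 2), (218, 1), (218, 14), (218, 8), (218, 16), (218, 79), (203, 1), (203, 8), (203, 16),
     (203, 22), (203, 106), (161, 16), (161, 22), (161, 37), (134, 22), (134, 37), (134, 79), (70, 37), (70, 79),
     (70, 106), (55, 110), (55, 79), (55, 106), (35, 110), (35, 170), (35, 106), (13, 110), (13, 170), (13, 185),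
     (5, 170), (5, 185), (5, 205), (4, 185), (4, 205), (4, 227), (3, 227), (3, 219), (2, 233), (1, 232)]

/-- first steps for D4 over two elements -/
def pairStepsD4 : List (ℕ × ℕ) :=
    [(2, 8), (2, 13), (8, 10), (10, 21), (21, 15), (15, 13)]

/-- last steps for D4 over two elements -/
def pairStepsD42 : List (ℕ × ℕ) :=
    [(11, 2), (11, 15), (20, 8), (20, 13), (16, 2), (12, 8)]

/-- first steps for F4 over two elements -/
def pairStepsF4 : List (ℕ × ℕ) :=
    [(0, 46), (0, 32), (15, 47), (15, 26), (21, 32), (21, 6), (41, 26), (41, 2), (45, 6), (45, 1),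
     (46, 2), (47, 1)]

/-- last steps for F4 over two elements -/
def pairStepsF42 : List (ℕ × ℕ) :=
    [(39, 7), (39, 18), (39, 0), (39, 15), (39, 4), (39, 22), (29, 8), (29, 15), (29, 21), (29, 23),
     (29, 33), (13, 21)]

end Cfsg.Agent.ChevGen
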