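/-
Two generators of `²E₆(q)`: a torus element, and a short root element times a Coxeter element.
-/
import Cfsg.Agent.Twisted.Groups.E6Inst
import Cfsg.Agent.Lib.ChevGen.Step

set_option autoImplicit false
set_option maxRecDepth 20000

namespace Cfsg.Agent.ChevGen.TwE6

open Cfsg.Agent.Twisted Cfsg.Agent.Twisted.TypeE6 ChevGroup ChevIsogeny Cfsg.Lie

/-- the Coxeter word of the relative root system -/
def CW : List (Fin 4) := [0, 1, 2, 3]

/-- its powers -/
def CWpow (j : ℕ) : List (Fin 4) := (List.replicate j CW).flatten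

/-- the word on the fundamental roots of `E₆` -/
abbrev awC (j : ℕ) : List (Fin MT.tab.l) := ((CWpow j).map fd.O.wd).flatten

theorem pre_roots : (MT.S).actw (awC 1) 41 = (42 : Fin MT.tab.n) ∧
    (MT.S).actw (awC 1) 58 = (37 : Fin MT.tab.n) ∧
    (MT.S).actw (awC 3) 42 = (31 : Fin MT.tab.n) ∧ (MT.S).actw (awC 3) 37 = (28 : Fin MT.tab.n) := by
  decide +kernel

theorem pairing_41_58 : ∀ i : Fin MT.tab.l,
    chevE6.pairing ((MT.S).simple i).val (41 : Fin MT.tab.n).val =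
      ([0, -1, -1, 1, 0, 1] : List ℤ).getD i.val 0 ∧
    chevE6.pairing ((MT.S).simple i).val (58 : Fin MT.tab.n).val =
      ([1, -1, 0, 1, -1, 0] : List ℤ).getD i.val 0 := by
  decide +kernel

/-- every fundamental class, and its negative, is carried into one of the two -/
theorem orbit_ok : ∀ k : Fin 4,
    (∃ j ∈ List.range 12, ∃ S ∈ ([[42, 37], [32]] : List (List (Fin MT.tab.n))),
      ∀ r ∈ fd.O.cls k, (MT.S).actw (awC j).reverse r ∈ S) ∧
    ∃ j ∈ List.range 12, ∃ S ∈ ([[42, 37], [32]] : List (List (Fin MT.tab.n))),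
      ∀ r, (MT.S).neg r ∈ fd.O.cls k → (MT.S).actw (awC j).reverse r ∈ S := by
  decide +kernel

/-- the two nontrivial formulas used -/
theorem terms_ok : chevE6.commTerms 42 28 = [(32, 1, 1, 1)] ∧ chevE6.commTerms 37 31 = [(32, -1, 1, 1)] := by
  decide +kernel

theorem commute_ok : ∀ p ∈ ([(42, 31), (37, 28), (42, 32), (37, 32), (31, 32), (28, 32), (31, 28), (42, 37)] :
    List (Fin MT.tab.n × Fin MT.tab.n)), PP.commuteB chevE6 p.1.val p.2.val = true := by
  decide +kernel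

theorem list32 : commListB PP fd [(32 : Fin MT.tab.n)] = true := by decide +kernel

variable {F : Type*} [Field F] [Fintype F] {q : ℕ} {K : Rels chevE6 F}
  (Z : Frame (T := MT) K PP q fd) (hq : IsPrimePow q) (hK : Fintype.card F = q ^ 2)

set_option quotPrecheck false in
local notation "G₁" => genG MT K (e6Words F q)

include Z hq hK

theorem exists_two_gen : ∃ a b : ↥G₁, Subgroup.closure ({a, b} : Set ↥G₁) = ⊤ := by
  classical
  obtain ⟨hadd, -, -⟩ := qpow_hom hq hK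
  have X := gens Z hq hK
  have h2q := hq.two_le
  have hcard : 2 < Fintype.card F := by rw [hK]; nlinarith
  obtain ⟨k, hk⟩ := IsCyclic.exists_generator (α := Fˣ)
  set c := cvec q k⁻¹ (1 : Fˣ) 1 1 with hcdef
  set h := tor MT K c with hh
  have hhG : h ∈ G₁ :=
    torus_mem Z hadd hq.pos.ne' c (sig_cvec Z hq hK _ _ _ _ (one_pow q) (one_pow q))
  set x : F → ↥(chevE6.group F) := fun t => prodX MT K [42, 37] (duo q 42 t) with hxdef
  have hxG : ∀ t, x t ∈ G₁ := fun t => pair_mem_G Z (p := (42, 37)) (by decide) t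
  have hxv : ∀ t, x t = (MT.rel K).x 42 t * (MT.rel K).x 37 (t ^ q) := fun t => by
    simp [hxdef, prodX, duo]
  have cm : ∀ a b : Fin MT.tab.n, (a, b) ∈ ([(42, 31), (37, 28), (42, 32), (37, 32), (31, 32),
      (28, 32), (31, 28), (42, 37)] : List (Fin MT.tab.n × Fin MT.tab.n)) →
      ∀ u v : F, Commute ((MT.rel K).x a u) ((MT.rel K).x b v) := fun a b hab u v =>
    Z.commute_x (commute_ok (a, b) hab) u v
  have hxadd : ∀ a b, x (a + b) = x a * x b := fun a b => by
    have hc := (cm 42 37 (by decide) b (a ^ q)).eq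
    rw [hxv, hxv, hxv, hadd, (MT.rel K).x_add, (MT.rel K).x_add]
    calc (MT.rel K).x 42 a * (MT.rel K).x 42 b * ((MT.rel K).x 37 (a ^ q) * (MT.rel K).x 37 (b ^ q))
        = (MT.rel K).x 42 a * ((MT.rel K).x 42 b * (MT.rel K).x 37 (a ^ q)) * (MT.rel K).x 37 (b ^ q) := by
          group
      _ = _ := by rw [hc]; group
  set n := X.data.nW (CWpow 1) with hn
  have hnG : n ∈ G₁ := X.data.nW_mem _
  refine ⟨⟨h, hhG⟩, ⟨x 1 * n, mul_mem (hxG 1) hnG⟩, ?_⟩
  set Q := (Subgroup.closure ({⟨h, hhG⟩, ⟨x 1 * n, mul_mem (hxG 1) hnG⟩} : Set ↥G₁)).map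
    (G₁).subtype with hQ
  have hhQ : h ∈ Q := ⟨⟨h, hhG⟩, Subgroup.subset_closure (by simp), rfl⟩
  have hbQ : x 1 * n ∈ Q :=
    ⟨⟨x 1 * n, mul_mem (hxG 1) hnG⟩, Subgroup.subset_closure (by simp), rfl⟩
  -- the characters
  obtain ⟨p1, p2, p3, p4⟩ := pre_roots
  obtain ⟨c0, c1, c2, c3, c4, c5⟩ := cvec_val q k⁻¹ (1 : Fˣ) 1 (1 : Fˣ)
  obtain ⟨-, -, v42, -, v37, -⟩ := chi_simple (F := F) c
  have e42 : chi MT c 42 = k := by
    rw [v42, hcdef, c0, c2, c3]; simp
  have e37 : chi MT c 37 = k ^ q := by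
    rw [v37, hcdef, c3, c4, c5]; simp
  have chi6 : ∀ (r : Fin MT.tab.n) (v : List ℤ),
      (∀ i : Fin MT.tab.l, chevE6.pairing ((MT.S).simple i).val r.val = v.getD i.val 0) →
      chi MT c r = ∏ i : Fin 6, (c : Fin 6 → Fˣ) i ^ v.getD i.val 0 :=
    fun r v h => Finset.prod_congr rfl fun i _ => congrArg (c i ^ ·) (h i)
  have e41 : chi MT c 41 = (k ^ q)⁻¹ := by
    rw [chi6 _ _ fun i => (pairing_41_58 i).1, Fin.prod_univ_six]
    simp [hcdef, cvec]
  have e58 : chi MT c 58 = k⁻¹ := by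
    rw [chi6 _ _ fun i => (pairing_41_58 i).2, Fin.prod_univ_six]
    simp [hcdef, cvec]
  have hconj : ∀ t, h * x t * h⁻¹ = x ((k : F) * t) := fun t => by
    rw [hxv, hxv, mul_pow, show h * ((MT.rel K).x 42 t * (MT.rel K).x 37 (t ^ q)) * h⁻¹ =
      h * (MT.rel K).x 42 t * h⁻¹ * (h * (MT.rel K).x 37 (t ^ q) * h⁻¹) by group, hh, Z.tor_conj,
      Z.tor_conj, e42, e37, Units.val_pow_eq_pow_val]
  set h' := n * h * n⁻¹ with hh'
  have hco : InCoset (MT.rel K) n (awC 1) := X.data.nW_coset (CWpow 1)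
  have move : ∀ r s : Fin MT.tab.n, (MT.S).actw (awC 1) r = s → ∀ t,
      h' * (MT.rel K).x s t * h'⁻¹ = (MT.rel K).x s ((chi MT c r : F) * t) := by
    intro r s hrs t
    obtain ⟨d, hd, hd'⟩ := hco.conj_x r
    rw [hrs] at hd'
    have e1 : (MT.rel K).x s t = n * (MT.rel K).x r (d⁻¹ * t) * n⁻¹ := by
      rw [hd', mul_inv_cancel_left₀ hd]
    rw [e1, hh', show n * h * n⁻¹ * (n * (MT.rel K).x r (d⁻¹ * t) * n⁻¹) * (n * h * n⁻¹)⁻¹ =
      n * (h * (MT.rel K).x r (d⁻¹ * t) * h⁻¹) * n⁻¹ by group, hh, Z.tor_conj, hd']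
    congr 1
    field_simp
  have hconj' : ∀ t, h' * x t * h'⁻¹ = x (((k ^ q)⁻¹ : Fˣ) * t) := fun t => by
    have hper : ((k : F) ^ q) ^ q = k := by
      rw [← pow_mul, ← pow_two]; exact (qpow_hom hq hK).2.2 _
    rw [hxv, hxv, mul_pow, show h' * ((MT.rel K).x 42 t * (MT.rel K).x 37 (t ^ q)) * h'⁻¹ =
      h' * (MT.rel K).x 42 t * h'⁻¹ * (h' * (MT.rel K).x 37 (t ^ q) * h'⁻¹) by group,
      move _ _ p1, move _ _ p2, e41, e58]
    simp [inv_pow, hper]
  have hHcomm : Commute h h' := by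
    obtain ⟨c', hc'⟩ := Z.exists_tor torOk
      (mono_conj_H (MT.rel K) hco.mem_mono (Z.tor_mem_H c) : h' ∈ (MT.rel K).H)
    show h * h' = h' * h
    rw [hh', ← hc', hh, ← Z.tor_mul, ← Z.tor_mul, mul_comm]
  have hk1 := gen_ne_one hcard hk
  have hk2 : (((k ^ q)⁻¹ : Fˣ) : F) ≠ 1 := by
    intro e
    have e' : k ^ q = 1 := inv_eq_one.1 (Units.ext e)
    have hper : (k ^ q) ^ q = k := Units.ext (by
      rw [Units.val_pow_eq_pow_val, Units.val_pow_eq_pow_val, ← pow_mul, ← pow_two]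
      exact (qpow_hom hq hK).2.2 _)
    rw [e', one_pow] at hper
    exact hk1 (by rw [← hper]; rfl)
  obtain ⟨hX, hnQ⟩ := steinberg_step hxadd (P := Q) hh'.symm hHcomm hconj hconj' hk1 hk2
    (Units.ne_zero _) (subringClosure_gen hk) hhQ hbQ
  -- the powers of `n`
  have hpow : ∀ j, X.data.nW (CWpow j) ∈ Q := fun j => by
    induction j with
    | zero => simpa [CWpow, Data.nW] using Q.one_mem
    | succ j ih =>
      have e : X.data.nW (CWpow (j + 1)) = n * X.data.nW (CWpow j) := by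
        simp [hn, CWpow, Data.nW, List.replicate_succ, List.map_append, List.prod_append]
      rw [e]; exact mul_mem hnQ ih
  -- the long root group
  obtain ⟨b1, hb1, hb1'⟩ := (X.data.nW_coset (CWpow 3)).conj_x (42 : Fin MT.tab.n)
  obtain ⟨b2, hb2, hb2'⟩ := (X.data.nW_coset (CWpow 3)).conj_x (37 : Fin MT.tab.n)
  have hwd : X.data.aw (CWpow 3) = awC 3 := rfl
  rw [hwd, p3] at hb1'
  rw [hwd, p4] at hb2'
  set B := (MT.rel K).x 31 b1 * (MT.rel K).x 28 b2 with hB
  have hBe : B = X.data.nW (CWpow 3) * x 1 * (X.data.nW (CWpow 3))⁻¹ := by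
    rw [hxv, one_pow, hB]
    conv_lhs => rw [← mul_one b1, ← mul_one b2, ← hb1', ← hb2']
    group
  have hBQ : B ∈ Q := hBe ▸ mul_mem (mul_mem (hpow 3) (hX 1)) (inv_mem (hpow 3))
  have hBG : B ∈ G₁ :=
    hBe ▸ mul_mem (mul_mem (X.data.nW_mem _) (hxG 1)) (inv_mem (X.data.nW_mem _))
  obtain ⟨t1, t2⟩ := terms_ok
  have key : ∀ (r s : Fin MT.tab.n), s.val ≠ r.val → s.val ≠ chevE6.neg r.val →
      ∀ c : ℤ, chevE6.commTerms r.val s.val = [(32, c, 1, 1)] → ∀ t u : F,
      (MT.rel K).x s u * (MT.rel K).x r t =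
        (MT.rel K).x r t * (MT.rel K).x s u * (MT.rel K).x 32 ((c : F) * -t * u) := by
    intro r s h1 h2 c hterms t u
    refine Subtype.ext (Units.ext ?_)
    have := Z.iso.comm r.val s.val (MT.lt r) (MT.lt s) h1 h2 t u
    have e : ∀ (a : Fin MT.tab.n) (v : F),
        ((((MT.rel K).x a v : ↥(chevE6.group F)) : GL chevE6.Idx F) : Matrix chevE6.Idx chevE6.Idx F) =
          chevE6.x F a.val v := fun a v => by
      rw [← IsoHyp.xN_val, ← IsoHyp.mat_xN (T := MT) (K := K)]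
    simp only [Subgroup.coe_mul, Units.val_mul, e]
    rw [show ((32 : Fin MT.tab.n)).val = 32 from rfl]
    simpa [ChevalleyDatum.commWord, hterms, ChevalleyDatum.wordMat] using this
  set φ : F → F := fun t => -(t * b2) + t ^ q * b1 with hφ
  have hcomm : ∀ t, (MT.rel K).x 32 (φ t) = B⁻¹ * (x t)⁻¹ * B * x t := fun t => by
    have k1 : (MT.rel K).x 28 b2 * (MT.rel K).x 42 t =
        (MT.rel K).x 42 t * (MT.rel K).x 28 b2 * (MT.rel K).x 32 (-(t * b2)) := by
      simpa using key 42 28 (by decide) (by decide +kernel) 1 t1 t b2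
    have k2 : (MT.rel K).x 31 b1 * (MT.rel K).x 37 (t ^ q) =
        (MT.rel K).x 37 (t ^ q) * (MT.rel K).x 31 b1 * (MT.rel K).x 32 (t ^ q * b1) := by
      simpa using key 37 31 (by decide) (by decide +kernel) (-1) t2 (t ^ q) b1
    have e : B * x t = x t * B * (MT.rel K).x 32 (φ t) := by
      rw [hxv, hB, show φ t = t ^ q * b1 + -(t * b2) from add_comm _ _, (MT.rel K).x_add]
      set A42 := (MT.rel K).x 42 t
      set A37 := (MT.rel K).x 37 (t ^ q)
      set B31 := (MT.rel K).x 31 b1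
      set B28 := (MT.rel K).x 28 b2
      set C1 := (MT.rel K).x 32 (-(t * b2))
      set C2 := (MT.rel K).x 32 (t ^ q * b1)
      have c1 : Commute A42 B31 := cm 42 31 (by decide) _ _
      have c2 : Commute A37 B28 := cm 37 28 (by decide) _ _
      have c3 : Commute A37 C1 := cm 37 32 (by decide) _ _
      have c4 : Commute B28 C2 := cm 28 32 (by decide) _ _
      calc B31 * B28 * (A42 * A37) = B31 * (B28 * A42) * A37 := by group
        _ = B31 * A42 * B28 * (C1 * A37) := by rw [k1]; group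
        _ = A42 * B31 * (B28 * A37) * C1 := by rw [← c3.eq, ← c1.eq]; group
        _ = A42 * (B31 * A37) * B28 * C1 := by rw [← c2.eq]; group
        _ = A42 * A37 * B31 * (C2 * B28) * C1 := by rw [k2]; group
        _ = _ := by rw [← c4.eq]; group
    calc (MT.rel K).x 32 (φ t) = (x t * B)⁻¹ * (x t * B * (MT.rel K).x 32 (φ t)) := by group
      _ = _ := by rw [← e]; group
  have hφQ : ∀ t, (MT.rel K).x 32 (φ t) ∈ Q := fun t => by
    rw [hcomm]; exact mul_mem (mul_mem (mul_mem (inv_mem hBQ) (inv_mem (hX t))) hBQ) (hX t)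
  have fixed32 : ∀ v, (MT.rel K).x 32 v ∈ G₁ → v ^ q = v := fun v hv => by
    have h2 := X.fixed _ hv
    obtain ⟨l1, l2⟩ := lam_one (F := F) (q := q) (r := (32 : Fin MT.tab.n)) (by decide)
    rw [Z.σ_x, l1, l2, one_mul, ones_rho 32 (by decide)] at h2
    exact Z.iso.x_injective _ h2
  obtain ⟨t0, ht0⟩ : ∃ t, φ t ≠ 0 := by
    by_contra! hno
    have hb : b1 = b2 := by
      have := hno 1
      simp only [hφ, one_mul, one_pow] at this
      linear_combination this
    have hall : ∀ t : F, t ^ q = t := fun t => by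
      have := hno t
      simp only [hφ, hb] at this
      exact (mul_left_inj' hb2).1 (by linear_combination this)
    have h1 := card_fixed_pow (F := F) hq.one_lt hK
    rw [Nat.card_congr (Equiv.subtypeUnivEquiv hall), Nat.card_eq_fintype_card, hK] at h1
    nlinarith
  have hlong : ∀ g ∈ G₁, g ∈ Sg (MT.rel K) (· ∈ [(32 : Fin MT.tab.n)]) → g ∈ Q := by
    intro g hgG hg
    obtain ⟨v, rfl⟩ := Z.exists_prodX list32 hg
    simp only [prodX, List.map_cons, List.map_nil, List.prod_cons, List.prod_nil, mul_one] at hgG ⊢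
    have hv := fixed32 _ hgG
    have h0 : φ t0 ^ q = φ t0 := fixed32 _ (by
      rw [hcomm]; exact mul_mem (mul_mem (mul_mem (inv_mem hBG) (inv_mem (hxG t0))) hBG) (hxG t0))
    have hl : (v 32 / φ t0) ^ q = v 32 / φ t0 := by rw [div_pow, hv, h0]
    have := hφQ (v 32 / φ t0 * t0)
    have e : φ (v 32 / φ t0 * t0) = v 32 := by
      have hlam : ∀ m : F, m ^ q = m → φ (m * t0) = m * φ t0 := fun m hm => by
        simp only [hφ, mul_pow, hm]; ring
      rw [hlam _ hl, div_mul_cancel₀ _ ht0]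
    rwa [e] at this
  have hshort : ∀ g ∈ G₁, g ∈ Sg (MT.rel K) (· ∈ [(42 : Fin MT.tab.n), 37]) → g ∈ Q := by
    intro g hgG hg
    obtain ⟨t, rfl⟩ := cls_pair Z (p := (42, 37)) (by decide) (by decide +kernel) hg (X.fixed g hgG)
    exact hX t
  have hroot : ∀ S ∈ ([[42, 37], [32]] : List (List (Fin MT.tab.n))), ∀ g ∈ G₁,
      g ∈ Sg (MT.rel K) (· ∈ S) → g ∈ Q := by
    simp only [List.forall_mem_cons]
    exact ⟨hshort, hlong, by simp⟩
  have pull : ∀ (j : ℕ) (T : Fin MT.tab.n → Prop), ∀ S ∈ ([[42, 37], [32]] : List (List (Fin MT.tab.n))),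
      (∀ r, T r → (MT.S).actw (awC j).reverse r ∈ S) →
      ∀ g ∈ G₁, g ∈ Sg (MT.rel K) T → g ∈ Q := by
    intro j T S hS hT g hgG hg
    have h1 := (X.data.nW_coset (CWpow j)).inv_conj_Sg _ (T' := (· ∈ S)) hT hg
    have h2 := hroot S hS _ (mul_mem (mul_mem (inv_mem (X.data.nW_mem _)) hgG) (X.data.nW_mem _)) h1
    have := mul_mem (mul_mem (hpow j) h2) (inv_mem (hpow j))
    simpa [mul_assoc] using this
  have hle : G₁ ≤ Q := fun g hg => by
    refine (Subgroup.closure_le _).2 ?_ (X.gen g hg)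
    rintro y ⟨i, hy, hi | hi⟩
    · obtain ⟨j, -, S, hS, hT⟩ := (orbit_ok i).1
      exact pull j _ S hS hT y hy hi
    · obtain ⟨j, -, S, hS, hT⟩ := (orbit_ok i).2
      exact pull j _ S hS hT y hy hi
  rw [eq_top_iff]
  intro g _
  obtain ⟨g', hg', e⟩ := hle g.2
  exact (Subtype.ext e : g' = g) ▸ hg'

end Cfsg.Agent.ChevGen.TwE6
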